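import Cfsg.Agent.Lib.InvSym.Norm

/-!
# Counting the class of the involution in subgroups of the normalisers
-/

set_option autoImplicit false
set_option linter.style.haveILetI false
set_option linter.unusedSectionVars false

namespace Cfsg.Agent.InvSym

/-- Is a model element conjugate to `t`? -/
def kT (o : OB) (e : El) : Bool :=
  (List.range 16).any fun k =>
    ((e == el false k) && kK o false k) || ((e == el true k) && kK o true k)

/-- The number of elements of the elementary subgroup `i` that are fixed by `L` and are not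
conjugate to `t`. -/
def fixFree (o : OB) (i : Bool) (L : Lin) : ℕ :=
  (List.range 16).countP fun k => (app L k == k) && !kK o i k

theorem card_finset_range (n : ℕ) (p : ℕ → Bool) :
    Nat.card {k : ℕ // k < n ∧ p k = true} = (List.range n).countP p := by
  classical
  rw [List.countP_eq_length_filter, ← List.toFinset_card_of_nodup (List.nodup_range.filter _),
    ← Nat.card_eq_finsetCard]
  exact Nat.card_congr (Equiv.subtypeEquivRight fun k => by simp)

variable {G : Type*} [Group G] [Finite G]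

namespace Setup

variable (S : Setup G)

/-- The number of conjugates of `t` inducing `L` on the elementary subgroup `i`. -/
noncomputable def cnt (i : Bool) (L : Lin) : ℕ :=
  Nat.card {x : G // IsConj S.t x ∧ S.Map i i x L}

/-- The map is induced by some element. -/
def Real (i : Bool) (L : Lin) : Prop := ∃ g, S.Map i i g L

/-- A list of maps forming a group. -/
def Closed (P : List Lin) : Prop := idL ∈ P ∧ ∀ A ∈ P, ∀ B ∈ P, gm A B ∈ P

variable {S}

theorem Real.mul {i : Bool} {L M : Lin} (hL : S.Real i L) (hM : S.Real i M) :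
    S.Real i (gm L M) := by
  obtain ⟨g, hg⟩ := hL
  obtain ⟨h, hh⟩ := hM
  exact ⟨g * h, hg.comp hh⟩

theorem Real.of_slist {i : Bool} {L : Lin} (hL : L ∈ Slist i) : S.Real i L := S.slist_realised i hL

theorem sq_of_isConj {x : G} (h : IsConj S.t x) : x * x = 1 := by
  obtain ⟨g, rfl⟩ := isConj_iff.1 h
  calc g * S.t * g⁻¹ * (g * S.t * g⁻¹) = g * (S.t * S.t) * g⁻¹ := by group
    _ = 1 := by rw [S.sq, mul_one, mul_inv_cancel]

/-- The preimage of a closed list of maps. -/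
noncomputable def preim (S : Setup G) (i : Bool) (P : List Lin) (hP : Closed P) : Subgroup G :=
  subgroupOfClosed {g | ∃ L ∈ P, S.Map i i g L} ⟨idL, hP.1, Map.one i⟩
    fun _ _ ⟨A, hA, hxA⟩ ⟨B, hB, hyB⟩ => ⟨gm A B, hP.2 A hA B hB, hxA.comp hyB⟩

theorem mem_preim {i : Bool} {P : List Lin} {hP : Closed P} {g : G} :
    g ∈ S.preim i P hP ↔ ∃ L ∈ P, S.Map i i g L := Iff.rfl

theorem card_preim {i : Bool} {P : List Lin} (hP : Closed P) (hnd : P.Nodup)
    (hreal : ∀ L ∈ P, S.Real i L) : Nat.card (S.preim i P hP) = 16 * P.length := by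
  choose r hr using hreal
  let F : Fin P.length × Fin 16 → S.preim i P hP := fun p =>
    ⟨r _ (List.getElem_mem p.1.2) * S.E i p.2, mem_preim.2
      ⟨_, List.getElem_mem p.1.2, by
        have h := (hr _ (List.getElem_mem p.1.2)).comp (Map.elem (S := S) i p.2.2)
        rwa [gm_idL] at h⟩⟩
  have hF : Function.Bijective F := by
    constructor
    · intro p q hpq
      have hval : r _ (List.getElem_mem p.1.2) * S.E i p.2 =
          r _ (List.getElem_mem q.1.2) * S.E i q.2 := congrArg Subtype.val hpq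
      have h1 := (hr _ (List.getElem_mem p.1.2)).comp (Map.elem (S := S) i p.2.2)
      have h2 := (hr _ (List.getElem_mem q.1.2)).comp (Map.elem (S := S) i q.2.2)
      rw [gm_idL] at h1 h2
      rw [hval] at h1
      have he : p.1 = q.1 := Fin.ext ((hnd.getElem_inj_iff).1 (h1.unique h2))
      obtain ⟨a, b⟩ := p
      obtain ⟨c, d⟩ := q
      simp only at he
      subst he
      exact Prod.ext rfl (Fin.ext (S.E_inj i b.2 d.2 (mul_left_cancel hval)))
    · rintro ⟨g, hg⟩
      obtain ⟨L, hL, hgL⟩ := mem_preim.1 hg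
      obtain ⟨a, ha, rfl⟩ := List.getElem_of_mem hL
      obtain ⟨M, hM, hML⟩ := (hr _ (List.getElem_mem ha)).inv
      have h1 := hM.comp hgL
      rw [hML] at h1
      obtain ⟨k, hk, hk'⟩ := (h1.stab (app_idL (by norm_num))).2.1 rfl
      exact ⟨(⟨a, ha⟩, ⟨k, hk⟩), Subtype.ext (by simp only [F]; rw [← hk', mul_inv_cancel_left])⟩
  rw [← Nat.card_eq_of_bijective F hF, Nat.card_prod, Nat.card_fin, Nat.card_fin, mul_comm]

theorem classCount_preim {i : Bool} {P : List Lin} (hP : Closed P) (hnd : P.Nodup) :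
    classCount (S.preim i P hP : Set G) S.t = (P.map (S.cnt i)).sum := by
  classical
  have e : (Σ a : Fin P.length, {x : G // IsConj S.t x ∧ S.Map i i x (P.get a)}) ≃
      {x : G // x ∈ (S.preim i P hP : Set G) ∧ IsConj S.t x} := by
    refine Equiv.ofBijective (fun p => ⟨p.2.1, mem_preim.2 ⟨_, List.get_mem P p.1, p.2.2.2⟩,
      p.2.2.1⟩) ⟨?_, ?_⟩
    · rintro ⟨a, x, hx⟩ ⟨b, y, hy⟩ h
      have hxy : x = y := congrArg Subtype.val h
      subst hxy
      have hab : a = b := Fin.ext (hnd.getElem_inj_iff.1 (by simpa using hx.2.unique hy.2))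
      subst hab
      rfl
    · rintro ⟨x, hx, hK⟩
      obtain ⟨L, hL, hxL⟩ := mem_preim.1 hx
      obtain ⟨a, ha, rfl⟩ := List.getElem_of_mem hL
      exact ⟨⟨⟨a, ha⟩, x, hK, hxL⟩, rfl⟩
  rw [classCount, ← Nat.card_congr e, Nat.card_sigma]
  simp only [Finset.sum, Fin.univ_val_map]
  rw [Multiset.sum_coe, List.ofFn_eq_map]
  congr 1
  conv_rhs => rw [← List.map_get_finRange P, List.map_map]
  rfl

theorem cnt_idL {o : OB} (ho : S.HasO o) (i : Bool) :
    S.cnt i idL = (List.range 16).countP (kK o i) := by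
  rw [← card_finset_range, cnt]
  refine (Nat.card_eq_of_bijective
    (fun k : {k : ℕ // k < 16 ∧ kK o i k = true} =>
      (⟨S.E i k.1, (ho.mem i k.2.1).2 k.2.2, Map.elem i k.2.1⟩ :
        {x : G // IsConj S.t x ∧ S.Map i i x idL})) ⟨?_, ?_⟩).symm
  · intro a b h
    exact Subtype.ext (S.E_inj i a.2.1 b.2.1 (congrArg Subtype.val h))
  · rintro ⟨x, hK, hx⟩
    obtain ⟨k, hk, rfl⟩ := (hx.stab (app_idL (by norm_num))).2.1 rfl
    exact ⟨⟨k, hk, (ho.mem i hk).1 hK⟩, rfl⟩

theorem cnt_not_involution {i : Bool} {L : Lin} (h : gm L L ≠ idL) : S.cnt i L = 0 := by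
  rw [cnt]
  haveI : IsEmpty {x : G // IsConj S.t x ∧ S.Map i i x L} := ⟨fun ⟨x, hK, hx⟩ => by
    have h1 := hx.comp hx
    rw [S.sq_of_isConj hK] at h1
    exact h (h1.unique (Map.one i))⟩
  exact Nat.card_of_isEmpty

theorem cnt_conj {i : Bool} {M L L' : Lin} (hM : S.Real i M) (h : gm M L = gm L' M)
    (hLr : InRange L) : S.cnt i L = S.cnt i L' := by
  obtain ⟨g, hg⟩ := hM
  obtain ⟨M', hgi, hMM⟩ := hg.inv
  have hMM' : gm M M' = idL := by
    have h1 := hg.comp hgi
    rw [mul_inv_cancel] at h1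
    exact h1.unique (Map.one i)
  have hback : gm (gm M' L') M = gm M' (gm M L) := by rw [gm_assoc, h]
  apply le_antisymm
  · refine Nat.card_le_card_of_injective (fun x => ⟨g * x.1 * g⁻¹,
      (S.isConj_conj_iff g x.1).2 x.2.1, ?_⟩) fun a b hab => Subtype.ext
        (mul_left_cancel (mul_right_cancel (congrArg Subtype.val hab)))
    have h1 := (hg.comp x.2.2).comp hgi
    rwa [h, gm_assoc, hMM', gm_idL] at h1
  · refine Nat.card_le_card_of_injective (fun x => ⟨g⁻¹ * x.1 * g⁻¹⁻¹,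
      (S.isConj_conj_iff g⁻¹ x.1).2 x.2.1, ?_⟩) fun a b hab => Subtype.ext
        (mul_left_cancel (mul_right_cancel (congrArg Subtype.val hab)))
    rw [inv_inv]
    have h1 := (hgi.comp x.2.2).comp hg
    rw [hback, ← gm_assoc, hMM] at h1
    rw [show L = gm idL L from ?_]
    · exact h1
    · refine (idL_gm ?_).symm
      exact hLr

/-- Twisting property of the fusion. -/
def Flip (o : OB) : Prop := ∀ r ∈ List.range 8, inO o (1 ^^^ r) = !inO o r

theorem into_center {e : G} (hc : e * S.t = S.t * e) (he : e * e = 1) :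
    ∃ c r, c * S.t = S.t * c ∧ r < 8 ∧ c * e * c⁻¹ = S.E false r := by
  have hP : IsPGroup 2 (Subgroup.zpowers e) := by
    rw [IsPGroup.iff_card]
    haveI : Fact (Nat.Prime 2) := ⟨Nat.prime_two⟩
    rw [Nat.card_zpowers]
    have hd : orderOf e ∣ 2 := orderOf_dvd_of_pow_eq_one (by rw [pow_two, he])
    rcases (Nat.dvd_prime Nat.prime_two).1 hd with h | h
    · exact ⟨0, by simp [h]⟩
    · exact ⟨1, by simp [h]⟩
  obtain ⟨c, hcc, hcT⟩ := S.into_T hP (fun x hx => by
    obtain ⟨n, rfl⟩ := Subgroup.mem_zpowers_iff.1 hx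
    exact ((show Commute e S.t from hc).zpow_left n).eq)
  have hy := hcT e (Subgroup.mem_zpowers e)
  have hsq : mul (S.f (c * e * c⁻¹)) (S.f (c * e * c⁻¹)) = one := by
    rw [← S.hom _ _ hy.1 hy.1, show c * e * c⁻¹ * (c * e * c⁻¹) = c * (e * e) * c⁻¹ by group,
      he, mul_one, mul_inv_cancel, S.f_one]
  obtain ⟨i, k, hk, hk'⟩ : ∃ i k, k < 16 ∧ c * e * c⁻¹ = S.E i k := by
    rcases Tl_involution _ hy.2 hsq with h | h <;>
      obtain ⟨l, hl, hl'⟩ := List.mem_map.1 h <;>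
      exact ⟨_, l, List.mem_range.1 hl, S.inj _ _ hy.1 (S.E_comm _ (List.mem_range.1 hl))
        (by rw [← hl', S.f_E _ (List.mem_range.1 hl)])⟩
  obtain ⟨hz, h, -, hv, he'⟩ := zrep_spec i k (bits_cases hk)
  refine ⟨S.pre h * c, zrep i k, S.comm_mul (S.pre_comm hv) hcc, hz, ?_⟩
  rw [show S.pre h * c * e * (S.pre h * c)⁻¹ = S.pre h * (c * e * c⁻¹) * (S.pre h)⁻¹ by group,
    hk', mul_inv_eq_iff_eq_mul]
  refine S.inj _ _ (S.comm_mul (S.pre_comm hv) (S.E_comm i hk))
    (S.comm_mul (S.E_comm false (by omega)) (S.pre_comm hv)) ?_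
  rw [S.hom _ _ (S.pre_comm hv) (S.E_comm i hk),
    S.hom _ _ (S.E_comm false (by omega)) (S.pre_comm hv), S.f_pre hv, S.f_E i hk,
    S.f_E false (by omega)]
  exact he'

theorem flip_mul {o : OB} (ho : S.HasO o) (hfl : Flip o) {x e : G} (hx : IsConj S.t x)
    (hxe : x * e = e * x) (he : e * e = 1) : IsConj S.t (x * e) ↔ ¬ IsConj S.t e := by
  obtain ⟨h, hh⟩ := isConj_iff.1 hx.symm
  have hc : h * e * h⁻¹ * S.t = S.t * (h * e * h⁻¹) := by
    rw [← hh, show h * e * h⁻¹ * (h * x * h⁻¹) = h * (e * x) * h⁻¹ by group, ← hxe]; group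
  obtain ⟨c, r, hcc, hr, hcr⟩ := S.into_center hc
    (by rw [show h * e * h⁻¹ * (h * e * h⁻¹) = h * (e * e) * h⁻¹ by group, he, mul_one,
      mul_inv_cancel])
  have h1 : c * h * e * (c * h)⁻¹ = S.E false r := by rw [← hcr]; group
  have h2 : c * h * (x * e) * (c * h)⁻¹ = S.E false (1 ^^^ r) := by
    rw [← S.E_mul false (by norm_num) (by omega : r < 16), S.E_one, ← hcr]
    have h3 : c * S.t * c⁻¹ = S.t := by rw [hcc, mul_inv_cancel_right]
    calc c * h * (x * e) * (c * h)⁻¹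
        = c * (h * x * h⁻¹) * c⁻¹ * (c * (h * e * h⁻¹) * c⁻¹) := by group
      _ = S.t * (c * (h * e * h⁻¹) * c⁻¹) := by rw [hh, h3]
  have hlt : 1 ^^^ r < 8 := low_mul_table 1 (by decide) r (List.mem_range.2 hr)
  rw [← S.isConj_conj_iff (c * h) (x * e), h2, ho _ hlt, ← S.isConj_conj_iff (c * h) e, h1,
    ho _ hr, hfl r (List.mem_range.2 hr)]
  simp

/-- The number of conjugates in a coset. -/
theorem cnt_rule {o : OB} (ho : S.HasO o) (hfl : Flip o) {i : Bool} {L : Lin} (hL : L ≠ idL)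
    {x : G} (hx : IsConj S.t x) (hxL : S.Map i i x L) : S.cnt i L = fixFree o i L := by
  rw [fixFree, ← card_finset_range, cnt]
  have hcomm : ∀ k, k < 16 → app L k = k → x * S.E i k = S.E i k * x := fun k hk he => by
    rw [hxL.2 k hk, he]
  refine (Nat.card_eq_of_bijective
    (fun k : {k : ℕ // k < 16 ∧ ((app L k == k) && !kK o i k) = true} =>
      (⟨x * S.E i k.1, by
        obtain ⟨hk1, hk2⟩ := k.2
        rw [Bool.and_eq_true, beq_iff_eq, Bool.not_eq_true'] at hk2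
        rw [flip_mul ho hfl hx (hcomm _ hk1 hk2.1) (S.E_sq i hk1), ho.mem i hk1, hk2.2]
        exact Bool.false_ne_true, by
        have h := hxL.comp (Map.elem (S := S) i k.2.1)
        rwa [gm_idL] at h⟩ : {y : G // IsConj S.t y ∧ S.Map i i y L})) ⟨?_, ?_⟩).symm
  · intro a b h
    exact Subtype.ext (S.E_inj i a.2.1 b.2.1 (mul_left_cancel (congrArg Subtype.val h)))
  · rintro ⟨y, hy, hyL⟩
    obtain ⟨M, hM, hML⟩ := hxL.inv
    have h1 := hM.comp hyL
    rw [hML] at h1
    obtain ⟨k, hk, hk'⟩ := (h1.stab (app_idL (by norm_num))).2.1 rfl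
    have hyk : y = x * S.E i k := by rw [← hk', mul_inv_cancel_left]
    subst hyk
    have hx2 := S.sq_of_isConj hx
    have hy2 := S.sq_of_isConj hy
    have hke : app L k = k := by
      refine S.E_inj i (app_lt hxL.1 k) hk ?_
      have h3 := hxL.conj hk
      rw [← h3]
      calc x * S.E i k * x⁻¹
          = (x * S.E i k * (x * S.E i k)) * (S.E i k)⁻¹ * (x * x)⁻¹ := by group
        _ = S.E i k := by rw [hy2, hx2, one_mul, inv_one, mul_one,
              inv_eq_of_mul_eq_one_right (S.E_sq i hk)]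
    refine ⟨⟨k, hk, ?_⟩, rfl⟩
    have := (flip_mul ho hfl hx (hcomm k hk hke) (S.E_sq i hk)).1 hy
    rw [ho.mem i hk] at this
    simp [hke, Bool.eq_false_iff.2 this]

theorem cnt_dichotomy {o : OB} (ho : S.HasO o) (hfl : Flip o) {i : Bool} {L : Lin}
    (hL : L ≠ idL) : ∃ b : Bool, S.cnt i L = if b then fixFree o i L else 0 := by
  by_cases h : ∃ x, IsConj S.t x ∧ S.Map i i x L
  · obtain ⟨x, hx, hxL⟩ := h
    exact ⟨true, cnt_rule ho hfl hL hx hxL⟩
  · refine ⟨false, ?_⟩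
    haveI : IsEmpty {x : G // IsConj S.t x ∧ S.Map i i x L} :=
      ⟨fun ⟨x, hx, hxL⟩ => h ⟨x, hx, hxL⟩⟩
    exact Nat.card_of_isEmpty

theorem kT_spec {o : OB} (ho : S.HasO o) {x : G} (hx : x ∈ S.T) :
    IsConj S.t x ↔ kT o (S.f x) = true := by
  have key : ∀ i k, k < 16 → S.f x = el i k → x = S.E i k := fun i k hk h =>
    S.inj _ _ hx.1 (S.E_comm i hk) (by rw [h, S.f_E i hk])
  constructor
  · intro h
    have hsq : mul (S.f x) (S.f x) = one := by
      rw [← S.hom _ _ hx.1 hx.1, S.sq_of_isConj h, S.f_one]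
    simp only [kT, List.any_eq_true, Bool.or_eq_true, Bool.and_eq_true, beq_iff_eq]
    rcases Tl_involution _ hx.2 hsq with h1 | h1 <;> obtain ⟨k, hk, hk'⟩ := List.mem_map.1 h1
    · refine ⟨k, hk, Or.inl ⟨hk'.symm, ?_⟩⟩
      rw [key _ k (List.mem_range.1 hk) hk'.symm] at h
      exact (ho.mem _ (List.mem_range.1 hk)).1 h
    · refine ⟨k, hk, Or.inr ⟨hk'.symm, ?_⟩⟩
      rw [key _ k (List.mem_range.1 hk) hk'.symm] at h
      exact (ho.mem _ (List.mem_range.1 hk)).1 h
  · intro h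
    simp only [kT, List.any_eq_true, Bool.or_eq_true, Bool.and_eq_true, beq_iff_eq] at h
    obtain ⟨k, hk, ⟨h1, h2⟩ | ⟨h1, h2⟩⟩ := h
    · rw [key _ k (List.mem_range.1 hk) h1]; exact (ho.mem _ (List.mem_range.1 hk)).2 h2
    · rw [key _ k (List.mem_range.1 hk) h1]; exact (ho.mem _ (List.mem_range.1 hk)).2 h2

/-- A subgroup of `T` given by a closed list. -/
noncomputable def sub (S : Setup G) (H : List El) (h1 : one ∈ H)
    (hm : ∀ x ∈ H, ∀ y ∈ H, mul x y ∈ H) : Subgroup G :=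
  subgroupOfClosed {x | x * S.t = S.t * x ∧ S.f x ∈ H}
    ⟨by simp, by rw [f_one]; exact h1⟩
    fun x y hx hy => ⟨S.comm_mul hx.1 hy.1, by rw [S.hom _ _ hx.1 hy.1]; exact hm _ hx.2 _ hy.2⟩

theorem sub_facts {o : OB} (ho : S.HasO o) (H : List El) (h1 : one ∈ H)
    (hm : ∀ x ∈ H, ∀ y ∈ H, mul x y ∈ H) (hnd : H.Nodup) (hsub : ∀ x ∈ H, x ∈ Tl) :
    Nat.card (S.sub H h1 hm) = H.length ∧
      classCount (S.sub H h1 hm : Set G) S.t = H.countP (kT o) := by
  classical
  have e : S.sub H h1 hm ≃ {x : El // x ∈ H} :=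
    { toFun := fun x => ⟨S.f x.1, x.2.2⟩
      invFun := fun e => ⟨S.pre e.1, S.pre_comm (Tl_facts.2.2.1 _ (hsub _ e.2)), by
        rw [S.f_pre (Tl_facts.2.2.1 _ (hsub _ e.2))]; exact e.2⟩
      left_inv := fun x => Subtype.ext (S.pre_f x.2.1 (Tl_facts.2.2.1 _ (hsub _ x.2.2)))
      right_inv := fun e => Subtype.ext (S.f_pre (Tl_facts.2.2.1 _ (hsub _ e.2))) }
  refine ⟨by rw [Nat.card_congr e, Nat.card_congr (hnd.getEquiv H).symm, Nat.card_fin], ?_⟩
  rw [List.countP_eq_length_filter, ← List.toFinset_card_of_nodup (hnd.filter _),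
    ← Nat.card_eq_finsetCard, classCount]
  refine Nat.card_eq_of_bijective (fun x => ⟨S.f x.1, ?_⟩) ⟨?_, ?_⟩
  · obtain ⟨⟨hc, hH⟩, hK⟩ := x.2
    rw [List.mem_toFinset, List.mem_filter]
    exact ⟨hH, (kT_spec ho (x := x.1) ⟨hc, hsub _ hH⟩).1 hK⟩
  · intro a b h
    exact Subtype.ext (S.inj _ _ a.2.1.1 b.2.1.1 (congrArg Subtype.val h))
  · rintro ⟨y, hy⟩
    rw [List.mem_toFinset, List.mem_filter] at hy
    have hyv := Tl_facts.2.2.1 _ (hsub _ hy.1)
    refine ⟨⟨S.pre y, ⟨S.pre_comm hyv, ?_⟩, ?_⟩, Subtype.ext (S.f_pre hyv)⟩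
    · rw [S.f_pre hyv]; exact hy.1
    · exact (kT_spec ho (S.pre_mem_T (hsub _ hy.1))).2 (by rw [S.f_pre hyv]; exact hy.2)

end Setup

end Cfsg.Agent.InvSym
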