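import Cfsg.Agent.Lib.InvSym.Quad

/-!
# The normaliser of the Sylow subgroup acting as a cyclic group of order four

The transfer into the quotient of the normaliser by the Sylow subgroup of the centralizer is
nontrivial at the involution.
-/

set_option autoImplicit false
set_option linter.style.haveILetI false
set_option linter.unusedSectionVars false

namespace Cfsg.Agent.InvSym

variable {G : Type*} [Group G] [Finite G]

namespace Setup

variable {S : Setup G}

/-- The normaliser of `T`. -/
noncomputable def normalizerT (S : Setup G) : Subgroup G :=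
  subgroupOfClosed {g | S.NormT g} (NormT.of_mem S.T.one_mem) fun _ _ hx hy => NormT.mul hx hy

theorem mem_normalizerT {g : G} : g ∈ S.normalizerT ↔ S.NormT g := Iff.rfl

theorem kz_zero : IsConj S.t (S.E false 1) := by rw [S.E_one]

/-- The image in the centre of an element of the normaliser. -/
theorem img_exists (ho : S.HasO o4) {g : G} (hg : S.NormT g) :
    ∃ k : {k : ℕ // k < 8 ∧ inO o4 k = true}, g * S.t * g⁻¹ = S.E false k.1 := by
  obtain ⟨l, hl, hl'⟩ := conj_center hg (k := 1) (by norm_num)
  rw [S.E_one] at hl'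
  exact ⟨⟨l, hl, (ho l hl).1 (isConj_iff.2 ⟨g, hl'⟩)⟩, hl'⟩

theorem index_two_cyclic (ho : S.HasO o4) {g5 : G} (hg5 : S.NormT g5) (a5 : S.NAct g5)
    (h5 : g5 * S.t * g5⁻¹ = S.E false 5) (hd5 : app (a5.L false) 4 = 6) :
    ∃ H : Subgroup G, H.index = 2 := by
  classical
  -- an element over `tz` fixing the elementary subgroups
  have h51 : app (a5.L false) 1 = 5 := center_image a5 (by norm_num) h5 false
  have hz52 := a5.fixz false
  have h55 : app (a5.L false) 5 = 3 := by
    rw [show (5 : ℕ) = 1 ^^^ 4 from rfl, app_xor, h51, hd5]; rfl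
  have h56 : app (a5.L false) 6 = 4 := by
    rw [show (6 : ℕ) = 2 ^^^ 4 from rfl, app_xor, hz52, hd5]; rfl
  have hsq := a5.sq false
  have hsqv : ∀ k, k < 8 → app (gm (a5.L (Bool.xor a5.swap false)) (a5.L false)) k =
      app (a5.L false) (app (a5.L false) k) := fun k hk => by
    rw [app_gm, (a5.low _ _ (a5.low false k hk).1).2]
  obtain ⟨hb, he⟩ := hsq.eq_mk (x := 3) (d := 4)
    (by rw [hsqv 1 (by norm_num), h51, h55])
    (by rw [hsqv 2 (by norm_num), hz52, hz52])
    (by rw [hsqv 4 (by norm_num), hd5, h56])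
  rw [he] at hsq
  obtain ⟨g3, c, hc, hm3, hT3⟩ := normalised ho (by simp) hb hsq
  have hg3 : S.NormT g3 := by
    have := (hg5.mul hg5).mul (NormT.of_mem hT3)
    rwa [mul_inv_cancel_left] at this
  have h3 : g3 * S.t * g3⁻¹ = S.E false 3 := by
    have := hm3.conj (show 1 < 16 by norm_num)
    rw [S.E_one, app_one] at this
    exact this
  -- the type is `8`
  have hc8 : c = 8 := by
    by_contra hne
    have h12 : c = 12 := by
      simp only [List.mem_cons, List.not_mem_nil, or_false] at hc
      omega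
    subst h12
    obtain ⟨s, hs, s', hs', p, hp, hq1, hq2, hq4⟩ := cyclic_word
    obtain ⟨gq, hgq⟩ : S.Real false
        (gm (gm (gm (gm s (3, 2, 4, 12)) s') (3, 2, 4, 12)) p) :=
      ((((Real.of_slist hs).mul ⟨g3, hm3⟩).mul (Real.of_slist hs')).mul ⟨g3, hm3⟩).mul
        (Real.of_slist hp)
    have hnq := normT_of_central hgq hq1
    have hqt := hgq.conj (show 1 < 16 by norm_num)
    rw [S.E_one, hq2, ← h5] at hqt
    obtain ⟨aq⟩ := S.nact hnq
    have := zmap_coset hnq hg5 aq a5 hqt (k := 4) (by norm_num)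
    rw [← low_eq hgq aq (by norm_num : 4 < 8), hq4, hd5] at this
    omega
  subst hc8
  -- the quotient
  set N := S.normalizerT with hN
  set T' := S.T.subgroupOf N with hT'
  haveI hnormal : T'.Normal := ⟨fun x hx g => by
    simp only [hT', Subgroup.mem_subgroupOf, Subgroup.coe_mul, Subgroup.coe_inv] at hx ⊢
    exact mem_normalizerT.1 g.2 _ hx⟩
  have hcard : Nat.card (N ⧸ T') = 4 := by
    have e : Nat.card {k : ℕ // k < 8 ∧ inO o4 k = true} = 4 := by
      rw [card_finset_range, o4_count]
    rw [← e]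
    choose img himg using fun n : N => img_exists ho (mem_normalizerT.1 n.2)
    refine Nat.card_eq_of_bijective (fun q => img q.out) ⟨?_, ?_⟩
    · intro q q' hqq
      have h1 : (q.out : G) * S.t * (q.out : G)⁻¹ = (q'.out : G) * S.t * (q'.out : G)⁻¹ := by
        rw [himg, himg, show img q.out = img q'.out from hqq]
      have h2 := S.same_coset (mem_normalizerT.1 q.out.2) (mem_normalizerT.1 q'.out.2) h1
      rw [← QuotientGroup.out_eq' q, ← QuotientGroup.out_eq' q', eq_comm, QuotientGroup.eq]
      simpa [hT', Subgroup.mem_subgroupOf] using h2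
    · intro k
      obtain ⟨g, hg, hgk⟩ := S.mover k.2.1 ((ho _ k.2.1).2 k.2.2)
      obtain ⟨τ, hτ⟩ := QuotientGroup.mk_out_eq_mul T' (⟨g, mem_normalizerT.2 hg⟩ : N)
      refine ⟨((⟨g, mem_normalizerT.2 hg⟩ : N) : N ⧸ T'), Subtype.ext ?_⟩
      have hτT : ((τ : N) : G) ∈ S.T := Subgroup.mem_subgroupOf.1 τ.2
      have hval : ((((⟨g, mem_normalizerT.2 hg⟩ : N) : N ⧸ T').out : N) : G) =
          g * ((τ : N) : G) := congrArg Subtype.val hτ
      have h1 := himg ((QuotientGroup.mk (⟨g, mem_normalizerT.2 hg⟩ : N) : N ⧸ T')).out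
      rw [hval] at h1
      have h2 : g * ((τ : N) : G) * S.t * (g * ((τ : N) : G))⁻¹ = S.E false k.1 := by
        rw [← hgk, mul_assoc g, hτT.1]; group
      have h3' := h2.symm.trans h1
      have := S.E_inj false (by omega) (by
        have := (img ((QuotientGroup.mk (⟨g, mem_normalizerT.2 hg⟩ : N) : N ⧸ T')).out).2.1
        omega) h3'
      exact this.symm
  haveI : Fact (Nat.Prime 2) := ⟨Nat.prime_two⟩
  letI : CommGroup (N ⧸ T') :=
    { (inferInstance : Group (N ⧸ T')) with
      mul_comm := (IsPGroup.isMulCommutative_of_card_eq_prime_sq (p := 2)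
        (show Nat.card (N ⧸ T') = 2 ^ 2 by rw [hcard]; norm_num)).is_comm.comm }
  set φ : N →* N ⧸ T' := QuotientGroup.mk' T' with hφ
  set z3 : N ⧸ T' := φ ⟨g3, mem_normalizerT.2 hg3⟩ with hz3
  have hz31 : z3 ≠ 1 := by
    intro h
    rw [hz3, hφ, QuotientGroup.mk'_apply, QuotientGroup.eq_one_iff] at h
    have hT : g3 ∈ S.T := by simpa [hT', Subgroup.mem_subgroupOf] using h
    rw [hT.1, mul_inv_cancel_right, ← S.E_one false] at h3
    have := S.E_inj false (k := 1) (l := 3) (by norm_num) (by norm_num) h3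
    omega
  have hz32 : z3 * z3 = 1 := by
    rw [hz3, ← map_mul, hφ, QuotientGroup.mk'_apply, QuotientGroup.eq_one_iff]
    simp only [hT', Subgroup.mem_subgroupOf, Subgroup.coe_mul]
    refine S.mem_T_of_map (hm3.comp hm3) ?_
    decide
  -- conjugates of `t` in the normaliser
  have hclass : ∀ x : G, S.NormT x → IsConj S.t x → x ∈ S.T ∨ g3⁻¹ * x ∈ S.T := by
    intro x hx hK
    obtain ⟨k, hk⟩ := img_exists ho hx
    rcases List.mem_cons.1 ((o4_members k.1 (List.mem_range.2 k.2.1)).resolve_left
      (fun hn => hn k.2.2)) with h1 | hk357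
    · left
      rw [h1, S.E_one] at hk
      exact hx.mem_T (mul_inv_eq_iff_eq_mul.1 hk)
    obtain ⟨a⟩ := S.nact hx
    have hy : app (a.L false) 1 = k.1 := center_image a k.2.1 hk false
    have hd := fourth ho hx a hk357 hk
    have hback : app (a.L false) k.1 = 1 := by
      have h2 := S.sq_of_isConj hK
      have h4 := a.sq false
      rw [h2] at h4
      have h5 := h4.unique (Map.one false)
      have h6 := congrArg (fun L => app L 1) h5
      simp only [app_gm] at h6
      rw [(a.low _ _ (a.low false 1 (by norm_num)).1).2, hy, app_idL (by norm_num)] at h6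
      exact h6
    rcases List.mem_cons.1 hk357 with h | h
    · right; exact S.same_coset hx hg3 (by rw [hk, h3, h])
    exfalso
    rcases List.mem_cons.1 h with h | h
    · -- over `td`
      have h4 := zmap_coset hx hg5 a a5 (by rw [hk, h5, h]) (k := 4) (by norm_num)
      rw [hd5] at h4
      rw [h, show (5 : ℕ) = 1 ^^^ 4 from rfl, app_xor, hy, h, h4] at hback
      exact absurd hback (by decide)
    · -- over `tzd`
      have h7 : k.1 = 7 := List.mem_singleton.1 h
      have hxz := a.fixz false
      rcases hd.2 with h4 | h4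
      · obtain ⟨b⟩ := S.nact (hx.mul hg5)
        have e1 : ∀ j, j < 8 → app (b.L false) j = app (a.L false) (app (a5.L false) j) := by
          intro j hj
          rw [← low_eq ((a.map (Bool.xor a5.swap false)).comp (a5.map false)) b hj, app_gm,
            (a.low _ _ (a5.low false j hj).1).2]
        have b1 : app (b.L false) 1 = 3 := by
          rw [e1 1 (by norm_num), h51, show (5 : ℕ) = 1 ^^^ 4 from rfl, app_xor, hy, h7, h4]
          rfl
        have b4 : app (b.L false) 4 = 6 := by
          rw [e1 4 (by norm_num), hd5, show (6 : ℕ) = 2 ^^^ 4 from rfl, app_xor, hxz, h4]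
        have bimg : x * g5 * S.t * (x * g5)⁻¹ = S.E false 3 := by
          rw [← S.E_one false, (b.map false).conj (by norm_num : 1 < 16), b1]
          exact S.E_low _ false (by norm_num)
        have := (fourth ho (hx.mul hg5) b (by simp) bimg).1 rfl
        omega
      · rw [h7, show (7 : ℕ) = 1 ^^^ (2 ^^^ 4) from rfl, app_xor, app_xor, hy, h7, hxz, h4] at hback
        exact absurd hback (by decide)
  -- the transfer
  haveI : Fintype (Quotient (MulAction.orbitRel (Subgroup.zpowers S.t) (G ⧸ N))) :=
    Fintype.ofFinite _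
  set W : Set (G ⧸ N) := {c | g3⁻¹ * (c.out⁻¹ * S.t * c.out) ∈ S.T} with hW
  have hg3N : g3 ∈ N := mem_normalizerT.2 hg3
  have inS : ∀ y : G, g3⁻¹ * y ∈ S.T → y ∈ N := fun y hy => by
    have := N.mul_mem hg3N (mem_normalizerT.2 (NormT.of_mem hy))
    rwa [mul_inv_cancel_left] at this
  have hinv : ∀ (n : G), n ∈ N → ∀ y : G, g3⁻¹ * y ∈ S.T → g3⁻¹ * (n⁻¹ * y * n) ∈ S.T := by
    intro n hn y hy
    have hy' := inS y hy
    have h1 : φ ⟨y, hy'⟩ = z3 := by
      rw [hz3, hφ, QuotientGroup.mk'_apply, QuotientGroup.mk'_apply, eq_comm, QuotientGroup.eq]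
      simpa [hT', Subgroup.mem_subgroupOf] using hy
    have h2 : φ ((⟨n, hn⟩ : N)⁻¹ * ⟨y, hy'⟩ * ⟨n, hn⟩) = z3 := by
      rw [map_mul, map_mul, map_inv, h1, mul_comm _ z3, inv_mul_cancel_right]
    rw [hz3, hφ, QuotientGroup.mk'_apply, QuotientGroup.mk'_apply, eq_comm, QuotientGroup.eq] at h2
    simpa [hT', Subgroup.mem_subgroupOf] using h2
  have hWiff : ∀ g : G, (QuotientGroup.mk g : G ⧸ N) ∈ W ↔ g3⁻¹ * (g⁻¹ * S.t * g) ∈ S.T := by
    intro g
    obtain ⟨n, hn⟩ := QuotientGroup.mk_out_eq_mul N g
    simp only [hW, Set.mem_ofPred_eq, hn, mul_inv_rev]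
    constructor
    · intro h
      have := hinv (n : G)⁻¹ (N.inv_mem n.2) _ h
      rwa [inv_inv, show (n : G) * ((n : G)⁻¹ * g⁻¹ * S.t * (g * n)) * (n : G)⁻¹ =
        g⁻¹ * S.t * g by group] at this
    · intro h
      have := hinv (n : G) n.2 _ h
      rwa [show (n : G)⁻¹ * (g⁻¹ * S.t * g) * n = (n : G)⁻¹ * g⁻¹ * S.t * (g * n) by group] at this
  obtain ⟨hM, hfT, hf8, htau, hne⟩ := cyclic_counts
  have hWcard : Odd (Nat.card W) := by
    have h1 : Nat.card {g : G // g⁻¹ * S.t * g ∈ {y | g3⁻¹ * y ∈ S.T}} = Nat.card N * Nat.card W := by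
      rw [← Nat.card_prod]
      exact Nat.card_congr ((Equiv.subtypeEquivRight fun g => (hWiff g).symm).trans
        (QuotientGroup.preimageMkEquivSubgroupProdSet N W))
    rw [card_conj_into, S.card] at h1
    have hN128 : Nat.card N = 128 := by
      rw [Subgroup.card_eq_card_quotient_mul_card_subgroup T', hcard,
        Nat.card_congr (Subgroup.subgroupOfEquivOfLe
          (fun x hx => mem_normalizerT.2 (NormT.of_mem hx))).toEquiv, S.card_T]
    have hS : classCount {y | g3⁻¹ * y ∈ S.T} S.t = 4 ∨
        classCount {y | g3⁻¹ * y ∈ S.T} S.t = 12 := by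
      have e : classCount {y | g3⁻¹ * y ∈ S.T} S.t =
          S.cnt false (3, 2, 4, 8) + S.cnt false (gm (3, 2, 4, 8) tauL) := by
        rw [← coset_count hm3, classCount]
        exact Nat.card_congr (Equiv.subtypeEquivRight fun x => and_comm)
      obtain ⟨M, hMr, hMe⟩ := hM
      have e2 : S.cnt false (gm (3, 2, 4, 8) tauL) = 4 := by
        rw [htau, ← cnt_conj ((show S.Real false (3, 2, 4, 8) from ⟨g3, hm3⟩).reach hMr) hMe
          (by decide), cnt_tau ho false, hfT]
      obtain ⟨b, hb⟩ := cnt_dichotomy (i := false) ho o4_flip hne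
      rw [e, e2, hb, hf8]
      cases b <;> simp
    rw [hN128] at h1
    rcases hS with h | h <;> rw [h] at h1
    · obtain ⟨r, hr⟩ := S.odd
      exact ⟨r, by omega⟩
    · obtain ⟨r, hr⟩ := S.odd
      exact ⟨3 * r + 1, by omega⟩
  refine index_two_of_hom (MonoidHom.transfer φ) S.t S.sq ?_
  rw [MonoidHom.transfer_eq_prod_quotient_orbitRel_zpowers_quot]
  have hterm : ∀ q : Quotient (MulAction.orbitRel (Subgroup.zpowers S.t) (G ⧸ N)),
      φ ⟨q.out.out⁻¹ * S.t ^ Function.minimalPeriod (S.t • ·) q.out * q.out.out,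
        QuotientGroup.out_conj_pow_minimalPeriod_mem N S.t q.out⟩ =
        if q.out ∈ W then z3 else 1 := by
    intro q
    have hper : Function.IsPeriodicPt (S.t • ·) 2 q.out := by
      show S.t • S.t • q.out = q.out
      rw [← mul_smul, S.sq, one_smul]
    have hmem := QuotientGroup.out_conj_pow_minimalPeriod_mem N S.t q.out
    by_cases hp1 : Function.minimalPeriod (S.t • ·) q.out = 1
    · have hmem1 : q.out.out⁻¹ * S.t * q.out.out ∈ N := by
        rw [hp1, pow_one] at hmem; exact hmem
      have hval : φ ⟨q.out.out⁻¹ * S.t ^ Function.minimalPeriod (S.t • ·) q.out * q.out.out,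
          QuotientGroup.out_conj_pow_minimalPeriod_mem N S.t q.out⟩ =
            φ ⟨q.out.out⁻¹ * S.t * q.out.out, hmem1⟩ := by
        congr 1
        exact Subtype.ext (by simp only [hp1, pow_one])
      rw [hval]
      rcases hclass _ (mem_normalizerT.1 hmem1)
        (isConj_iff.2 ⟨q.out.out⁻¹, by group⟩) with h | h
      · rw [if_neg]
        · rw [hφ, QuotientGroup.mk'_apply, QuotientGroup.eq_one_iff]
          simpa [hT', Subgroup.mem_subgroupOf] using h
        · intro hw
          have hw' : g3⁻¹ * (q.out.out⁻¹ * S.t * q.out.out) ∈ S.T := hw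
          have h' := S.T.mul_mem hw' (S.T.inv_mem h)
          rw [mul_inv_cancel_right] at h'
          have hT := S.T.inv_mem h'
          rw [inv_inv] at hT
          rw [hT.1, mul_inv_cancel_right, ← S.E_one false] at h3
          have := S.E_inj false (k := 1) (l := 3) (by norm_num) (by norm_num) h3
          omega
      · rw [if_pos (show q.out ∈ W from h), hz3, hφ, QuotientGroup.mk'_apply,
          QuotientGroup.mk'_apply, eq_comm, QuotientGroup.eq]
        simpa [hT', Subgroup.mem_subgroupOf] using h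
    · have hp2 : Function.minimalPeriod (S.t • ·) q.out = 2 := by
        rcases (Nat.dvd_prime Nat.prime_two).1 hper.minimalPeriod_dvd with h | h
        · exact absurd h hp1
        · exact h
      rw [if_neg]
      · have : (⟨q.out.out⁻¹ * S.t ^ Function.minimalPeriod (S.t • ·) q.out * q.out.out,
            QuotientGroup.out_conj_pow_minimalPeriod_mem N S.t q.out⟩ : N) = 1 :=
          Subtype.ext (by simp [hp2, pow_two, S.sq])
        rw [this, map_one]
      · intro hw
        apply hp1
        rw [Function.minimalPeriod_eq_one_iff_isFixedPt]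
        show S.t • q.out = q.out
        have := (smul_mk_eq_iff N S.t q.out.out).2 (inS _ hw)
        rwa [QuotientGroup.out_eq'] at this
  rw [Finset.prod_congr rfl (fun q _ => hterm q), Finset.prod_ite, Finset.prod_const_one,
    mul_one, Finset.prod_const]
  have hA : (Finset.univ.filter
      (fun q : Quotient (MulAction.orbitRel (Subgroup.zpowers S.t) (G ⧸ N)) => q.out ∈ W)).card =
      Nat.card W := by
    rw [← Nat.card_eq_finsetCard]
    refine Nat.card_eq_of_bijective (fun q => (⟨q.1.out, (Finset.mem_filter.1 q.2).2⟩ : W)) ⟨?_, ?_⟩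
    · intro a b hab
      exact Subtype.ext (by
        have := congrArg Subtype.val hab
        exact (Quotient.out_inj).1 this)
    · rintro ⟨c, hcW⟩
      have hfix : S.t • c = c := by
        have := (smul_mk_eq_iff N S.t c.out).2 (inS _ hcW)
        rwa [QuotientGroup.out_eq'] at this
      have heq : (Quotient.mk (MulAction.orbitRel (Subgroup.zpowers S.t) (G ⧸ N)) c).out = c := by
        obtain ⟨g, hg⟩ := MulAction.orbitRel_apply.1
          (Quotient.mk_out (s := MulAction.orbitRel (Subgroup.zpowers S.t) (G ⧸ N)) c)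
        have hst : g.1 ∈ MulAction.stabilizer G c :=
          (Subgroup.zpowers_le.2 (MulAction.mem_stabilizer_iff.2 hfix)) g.2
        exact hg.symm.trans (MulAction.mem_stabilizer_iff.1 hst)
      exact ⟨⟨Quotient.mk _ c, Finset.mem_filter.2 ⟨Finset.mem_univ _, by rw [heq]; exact hcW⟩⟩,
        Subtype.ext heq⟩
  rw [hA]
  obtain ⟨r, hr⟩ := hWcard
  rw [hr, pow_succ, pow_mul, pow_two, hz32, one_pow, one_mul]
  exact hz31

end Setup

end Cfsg.Agent.InvSym
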