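import Cfsg.Agent.Lib.InvSym.Count

/-!
# Tables for the groups of order 48 induced on the elementary subgroups

For each of the four possible types: the 48 maps with a word in the generators, the number of
their conjugacy class of involutions and a conjugating map.
-/

set_option autoImplicit false

namespace Cfsg.Agent.InvSym

def xtab : ℕ → List (Lin × (ℕ × ℕ × ℕ) × ℕ × ℕ)
  | 0 => [
      ((1,2,4,8), (0,0,0), 0, 0), ((1,2,4,10), (0,0,1), 2, 0), ((1,12,10,4), (0,0,2), 1, 0),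
      ((1,12,10,8), (0,0,3), 2, 2), ((1,14,8,4), (0,0,4), 2, 3), ((1,14,8,10), (0,0,5), 1, 0),
      ((3,2,4,8), (0,1,0), 3, 0), ((3,2,4,10), (0,1,1), 2, 24), ((3,12,10,4), (0,1,2), 1, 0),
      ((3,12,10,8), (0,1,3), 1, 0), ((3,14,8,4), (0,1,4), 1, 0), ((3,14,8,10), (0,1,5), 1, 0),
      ((5,2,4,8), (0,2,0), 4, 0), ((5,2,4,10), (0,2,1), 5, 0), ((5,12,10,4), (0,2,2), 1, 0),
      ((5,12,10,8), (0,2,3), 1, 0), ((5,14,8,4), (0,2,4), 1, 0), ((5,14,8,10), (0,2,5), 1, 0),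
      ((7,2,4,8), (0,3,0), 6, 0), ((7,2,4,10), (0,3,1), 5, 24), ((7,12,10,4), (0,3,2), 1, 0),
      ((7,12,10,8), (0,3,3), 5, 26), ((7,14,8,4), (0,3,4), 5, 27), ((7,14,8,10), (0,3,5), 1, 0),
      ((9,2,4,8), (4,2,4), 4, 2), ((9,2,4,10), (4,2,5), 1, 0), ((9,12,10,4), (4,2,3), 1, 0),
      ((9,12,10,8), (4,2,2), 5, 2), ((9,14,8,4), (4,2,0), 1, 0), ((9,14,8,10), (4,2,1), 1, 0),
      ((11,2,4,8), (2,2,5), 4, 3), ((11,2,4,10), (2,2,4), 1, 0), ((11,12,10,4), (2,2,0), 1, 0),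
      ((11,12,10,8), (2,2,1), 1, 0), ((11,14,8,4), (2,2,3), 5, 3), ((11,14,8,10), (2,2,2), 1, 0),
      ((13,2,4,8), (2,1,5), 3, 3), ((13,2,4,10), (2,1,4), 1, 0), ((13,12,10,4), (2,1,0), 1, 0),
      ((13,12,10,8), (2,1,1), 1, 0), ((13,14,8,4), (2,1,3), 2, 27), ((13,14,8,10), (2,1,2), 1, 0),
      ((15,2,4,8), (4,1,4), 3, 2), ((15,2,4,10), (4,1,5), 1, 0), ((15,12,10,4), (4,1,3), 1, 0),
      ((15,12,10,8), (4,1,2), 2, 26), ((15,14,8,4), (4,1,0), 1, 0), ((15,14,8,10), (4,1,1), 1, 0)]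
  | 1 => [
      ((1,2,4,8), (0,0,0), 0, 0), ((1,2,4,10), (0,0,1), 2, 0), ((1,12,10,4), (0,0,2), 1, 0),
      ((1,12,10,8), (0,0,3), 2, 2), ((1,14,8,4), (0,0,4), 2, 3), ((1,14,8,10), (0,0,5), 1, 0),
      ((3,2,4,12), (0,1,0), 3, 0), ((3,2,4,14), (0,1,1), 4, 0), ((3,8,14,4), (0,1,2), 1, 0),
      ((3,8,14,12), (0,1,3), 1, 0), ((3,10,12,4), (0,1,4), 1, 0), ((3,10,12,14), (0,1,5), 1, 0),
      ((5,2,4,12), (0,2,0), 2, 24), ((5,2,4,14), (0,2,1), 5, 0), ((5,8,14,4), (0,2,2), 1, 0),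
      ((5,8,14,12), (0,2,3), 1, 0), ((5,10,12,4), (0,2,4), 1, 0), ((5,10,12,14), (0,2,5), 1, 0),
      ((7,2,4,8), (0,3,0), 6, 0), ((7,2,4,10), (0,3,1), 3, 24), ((7,12,10,4), (0,3,2), 1, 0),
      ((7,12,10,8), (0,3,3), 3, 26), ((7,14,8,4), (0,3,4), 3, 27), ((7,14,8,10), (0,3,5), 1, 0),
      ((9,4,2,8), (4,2,2), 5, 2), ((9,4,2,12), (4,2,3), 1, 0), ((9,10,12,2), (4,2,5), 1, 0),
      ((9,10,12,8), (4,2,4), 2, 26), ((9,14,8,2), (4,2,1), 1, 0), ((9,14,8,12), (4,2,0), 1, 0),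
      ((11,4,2,10), (2,2,2), 1, 0), ((11,4,2,14), (2,2,3), 5, 3), ((11,8,14,2), (2,2,5), 2, 27),
      ((11,8,14,10), (2,2,4), 1, 0), ((11,12,10,2), (2,2,1), 1, 0), ((11,12,10,14), (2,2,0), 1, 0),
      ((13,4,2,10), (2,1,2), 1, 0), ((13,4,2,14), (2,1,3), 4, 3), ((13,8,14,2), (2,1,5), 3, 3),
      ((13,8,14,10), (2,1,4), 1, 0), ((13,12,10,2), (2,1,1), 1, 0), ((13,12,10,14), (2,1,0), 1, 0),
      ((15,4,2,8), (4,1,2), 4, 2), ((15,4,2,12), (4,1,3), 1, 0), ((15,10,12,2), (4,1,5), 1, 0),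
      ((15,10,12,8), (4,1,4), 3, 2), ((15,14,8,2), (4,1,1), 1, 0), ((15,14,8,12), (4,1,0), 1, 0)]
  | 2 => [
      ((1,2,4,8), (0,0,0), 0, 0), ((1,2,4,10), (0,0,1), 2, 0), ((1,8,4,2), (0,0,2), 2, 3),
      ((1,8,4,10), (0,0,3), 1, 0), ((1,10,4,2), (0,0,4), 1, 0), ((1,10,4,8), (0,0,5), 2, 2),
      ((3,2,4,8), (0,1,0), 3, 0), ((3,2,4,10), (0,1,1), 2, 24), ((3,8,4,2), (0,1,2), 1, 0),
      ((3,8,4,10), (0,1,3), 1, 0), ((3,10,4,2), (0,1,4), 1, 0), ((3,10,4,8), (0,1,5), 1, 0),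
      ((5,2,4,8), (0,2,0), 4, 0), ((5,2,4,10), (0,2,1), 5, 0), ((5,8,4,2), (0,2,2), 5, 3),
      ((5,8,4,10), (0,2,3), 1, 0), ((5,10,4,2), (0,2,4), 1, 0), ((5,10,4,8), (0,2,5), 5, 2),
      ((7,2,4,8), (0,3,0), 6, 0), ((7,2,4,10), (0,3,1), 5, 24), ((7,8,4,2), (0,3,2), 1, 0),
      ((7,8,4,10), (0,3,3), 1, 0), ((7,10,4,2), (0,3,4), 1, 0), ((7,10,4,8), (0,3,5), 1, 0),
      ((9,2,4,8), (2,1,2), 3, 2), ((9,2,4,10), (2,1,3), 1, 0), ((9,8,4,2), (2,1,0), 1, 0),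
      ((9,8,4,10), (2,1,1), 1, 0), ((9,10,4,2), (2,1,5), 1, 0), ((9,10,4,8), (2,1,4), 2, 26),
      ((11,2,4,8), (4,1,3), 3, 3), ((11,2,4,10), (4,1,2), 1, 0), ((11,8,4,2), (4,1,5), 2, 27),
      ((11,8,4,10), (4,1,4), 1, 0), ((11,10,4,2), (4,1,0), 1, 0), ((11,10,4,8), (4,1,1), 1, 0),
      ((13,2,4,8), (2,3,2), 6, 2), ((13,2,4,10), (2,3,3), 1, 0), ((13,8,4,2), (2,3,0), 1, 0),
      ((13,8,4,10), (2,3,1), 1, 0), ((13,10,4,2), (2,3,5), 1, 0), ((13,10,4,8), (2,3,4), 5, 26),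
      ((15,2,4,8), (4,3,3), 6, 3), ((15,2,4,10), (4,3,2), 1, 0), ((15,8,4,2), (4,3,5), 5, 27),
      ((15,8,4,10), (4,3,4), 1, 0), ((15,10,4,2), (4,3,0), 1, 0), ((15,10,4,8), (4,3,1), 1, 0)]
  | _ => [
      ((1,2,4,8), (0,0,0), 0, 0), ((1,2,4,10), (0,0,1), 2, 0), ((1,8,4,2), (0,0,2), 2, 3),
      ((1,8,4,10), (0,0,3), 1, 0), ((1,10,4,2), (0,0,4), 1, 0), ((1,10,4,8), (0,0,5), 2, 2),
      ((3,2,4,12), (0,1,0), 3, 0), ((3,2,4,14), (0,1,1), 4, 0), ((3,12,4,2), (0,1,2), 1, 0),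
      ((3,12,4,14), (0,1,3), 1, 0), ((3,14,4,2), (0,1,4), 1, 0), ((3,14,4,12), (0,1,5), 1, 0),
      ((5,2,4,8), (0,2,0), 5, 0), ((5,2,4,10), (0,2,1), 4, 24), ((5,8,4,2), (0,2,2), 4, 27),
      ((5,8,4,10), (0,2,3), 1, 0), ((5,10,4,2), (0,2,4), 1, 0), ((5,10,4,8), (0,2,5), 4, 26),
      ((7,2,4,12), (0,3,0), 6, 0), ((7,2,4,14), (0,3,1), 2, 24), ((7,12,4,2), (0,3,2), 1, 0),
      ((7,12,4,14), (0,3,3), 1, 0), ((7,14,4,2), (0,3,4), 1, 0), ((7,14,4,12), (0,3,5), 1, 0),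
      ((9,6,4,8), (2,1,2), 3, 2), ((9,6,4,14), (2,1,3), 1, 0), ((9,8,4,6), (2,1,0), 1, 0),
      ((9,8,4,14), (2,1,1), 1, 0), ((9,14,4,6), (2,1,5), 1, 0), ((9,14,4,8), (2,1,4), 4, 2),
      ((11,6,4,10), (4,1,2), 1, 0), ((11,6,4,12), (4,1,3), 3, 3), ((11,10,4,6), (4,1,0), 1, 0),
      ((11,10,4,12), (4,1,1), 1, 0), ((11,12,4,6), (4,1,5), 4, 3), ((11,12,4,10), (4,1,4), 1, 0),
      ((13,6,4,8), (2,3,2), 6, 2), ((13,6,4,14), (2,3,3), 1, 0), ((13,8,4,6), (2,3,0), 1, 0),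
      ((13,8,4,14), (2,3,1), 1, 0), ((13,14,4,6), (2,3,5), 1, 0), ((13,14,4,8), (2,3,4), 2, 26),
      ((15,6,4,10), (4,3,2), 1, 0), ((15,6,4,12), (4,3,3), 6, 3), ((15,10,4,6), (4,3,0), 1, 0),
      ((15,10,4,12), (4,3,1), 1, 0), ((15,12,4,6), (4,3,5), 2, 27), ((15,12,4,10), (4,3,4), 1, 0)]

def creps : ℕ → List Lin
  | 0 => [(1,2,4,10), (3,2,4,8), (5,2,4,8), (5,2,4,10), (7,2,4,8)]
  | 1 => [(1,2,4,10), (3,2,4,12), (3,2,4,14), (5,2,4,14), (7,2,4,8)]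
  | 2 => [(1,2,4,10), (3,2,4,8), (5,2,4,8), (5,2,4,10), (7,2,4,8)]
  | _ => [(1,2,4,10), (3,2,4,12), (3,2,4,14), (5,2,4,8), (7,2,4,12)]

def menu : List ((ℕ × List ℕ) × (ℕ × List ℕ)) := [
  ((0, [0, 10, 36, 46]), (0, [0, 7, 12, 19])),
  ((2, [0, 5, 12, 17, 24, 29, 36, 41]), (2, [0, 8, 14, 18, 26, 30, 36, 44])),
  ((1, [0, 1, 12, 13]), (1, [0, 4, 37, 38])),
  ((3, [0, 5, 12, 17, 24, 29, 36, 41]), (3, [0, 2, 6, 8, 24, 26, 43, 46])),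
  ((0, [0, 3, 6, 9, 12, 15, 18, 21, 24, 27, 30, 33, 36, 39, 42, 45]), (2, [0, 2, 6, 8, 12, 14, 18, 20, 24, 26, 30, 32, 36, 38, 42, 44])),
  ((0, [0, 3, 6, 9, 12, 15, 18, 21, 24, 27, 30, 33, 36, 39, 42, 45]), (3, [0, 2, 6, 8, 12, 14, 18, 20, 24, 26, 31, 34, 36, 38, 43, 46])),
  ((1, [0, 3, 7, 11, 13, 17, 18, 21, 24, 27, 31, 35, 37, 41, 42, 45]), (2, [0, 2, 6, 8, 12, 14, 18, 20, 24, 26, 30, 32, 36, 38, 42, 44]))]

/-- The fusion pattern of the remaining case. -/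
def o4 : OB := (true, false, true, false, true)

/-- The elementary subgroup of a type. -/
def tyI (ty : ℕ) : Bool := 2 ≤ ty

/-- The generators of a type. -/
def tyR (ty : ℕ) (j : ℕ) : Lin :=
  match j with
  | 0 => idL
  | 1 => (3, 2, 4, if ty = 1 || ty = 3 then 12 else 8)
  | 2 => (5, 2, 4, if ty = 1 then 12 else 8)
  | _ => gm (3, 2, 4, if ty = 1 || ty = 3 then 12 else 8) (5, 2, 4, if ty = 1 then 12 else 8)

/-- The data of a table entry. -/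
def ent (ty k : ℕ) : Lin × (ℕ × ℕ × ℕ) × ℕ × ℕ := (xtab ty).getD k (idL, (0, 0, 0), 0, 0)

/-- A table element. -/
def xk (ty k : ℕ) : Lin := (ent ty k).1

/-- A class representative. -/
def crep (ty c : ℕ) : Lin := (creps ty).getD c idL

/-- The number of conjugates of `t` over a table element. -/
def cntV (ty : ℕ) (b : Bool × Bool × Bool × Bool) (k : ℕ) : ℕ :=
  match (ent ty k).2.2.1 with
  | 0 => (List.range 16).countP (kK o4 (tyI ty))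
  | 1 => 0
  | 2 => fixFree o4 (tyI ty) tauL
  | 3 => if b.1 then fixFree o4 (tyI ty) (crep ty 1) else 0
  | 4 => if b.2.1 then fixFree o4 (tyI ty) (crep ty 2) else 0
  | 5 => if b.2.2.1 then fixFree o4 (tyI ty) (crep ty 3) else 0
  | _ => if b.2.2.2 then fixFree o4 (tyI ty) (crep ty 4) else 0

/-- The index of a map in the table. -/
def xidx (ty : ℕ) (L : Lin) : ℕ := ((xtab ty).map (·.1)).idxOf L

/-- The number of conjugates of `t` over a coset of the Sylow subgroup. -/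
def cosetV (ty : ℕ) (b : Bool × Bool × Bool × Bool) (j : ℕ) : ℕ :=
  cntV ty b (xidx ty (tyR ty j)) + cntV ty b (xidx ty (gm (tyR ty j) tauL))

/-- The number of conjugates of `t` over a list of table elements. -/
def sumV (ty : ℕ) (b : Bool × Bool × Bool × Bool) (P : List ℕ) : ℕ := (P.map (cntV ty b)).sum

theorem xtab_word : ∀ ty ∈ List.range 4, ∀ k ∈ List.range 48,
    (ent ty k).2.1.1 < 6 ∧ (ent ty k).2.1.2.1 < 4 ∧ (ent ty k).2.1.2.2 < 6 ∧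
      xk ty k = gm (gm ((Slist (tyI ty)).getD (ent ty k).2.1.1 idL) (tyR ty (ent ty k).2.1.2.1))
        ((Slist (tyI ty)).getD (ent ty k).2.1.2.2 idL) := by decide +kernel

theorem xtab_code : ∀ ty ∈ List.range 4, ∀ k ∈ List.range 48,
    InRange (xk ty k) ∧ (ent ty k).2.2.2 < 48 ∧
      ((ent ty k).2.2.1 = 0 ∧ xk ty k = idL ∨ (ent ty k).2.2.1 = 1 ∧ gm (xk ty k) (xk ty k) ≠ idL ∨
        (ent ty k).2.2.1 ∈ [2, 3, 4, 5, 6] ∧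
          gm (xk ty (ent ty k).2.2.2) (xk ty k) =
            gm (crep ty ((ent ty k).2.2.1 - 2)) (xk ty (ent ty k).2.2.2)) := by decide +kernel

theorem crep_facts : ∀ ty ∈ List.range 4,
    crep ty 0 = tauL ∧ ∀ c ∈ List.range 5, crep ty c ≠ idL := by decide +kernel

theorem xidx_facts : ∀ ty ∈ List.range 4, ∀ j ∈ [1, 2, 3],
    xidx ty (tyR ty j) < 48 ∧ xk ty (xidx ty (tyR ty j)) = tyR ty j ∧
      xidx ty (gm (tyR ty j) tauL) < 48 ∧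
        xk ty (xidx ty (gm (tyR ty j) tauL)) = gm (tyR ty j) tauL := by decide +kernel

/-- The subgroups of the menu. -/
def GoodP (ty : ℕ) (P : List ℕ) : Prop :=
  (∀ k ∈ P, k < 48) ∧ (P.map (xk ty)).Nodup ∧ idL ∈ P.map (xk ty) ∧
    ∀ A ∈ P.map (xk ty), ∀ B ∈ P.map (xk ty), gm A B ∈ P.map (xk ty)

instance (ty : ℕ) (P : List ℕ) : Decidable (GoodP ty P) := by unfold GoodP; infer_instance

theorem menu_facts : ∀ p ∈ menu, p.1.1 < 4 ∧ p.2.1 < 4 ∧ GoodP p.1.1 p.1.2 ∧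
    GoodP p.2.1 p.2.2 ∧ p.1.2.length = p.2.2.length ∧
      ∃ a ∈ [6, 7, 8], 16 * p.1.2.length = 2 ^ a := by decide +kernel

/-- The parameters of one of the two types. -/
def pick (A : ℕ) (bA bB : Bool × Bool × Bool × Bool) (ty : ℕ) : Bool × Bool × Bool × Bool :=
  if ty = A then bA else bB

set_option synthInstance.maxSize 4000 in
set_option synthInstance.maxHeartbeats 1000000 in
theorem menu_covers : ∀ A ∈ [0, 1], ∀ B ∈ [2, 3], ∀ bA bB : Bool × Bool × Bool × Bool,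
    (∀ j ∈ [1, 2, 3], cosetV A bA j = cosetV B bB j) →
      ∃ p ∈ menu, (p.1.1 = A ∨ p.1.1 = B) ∧ (p.2.1 = A ∨ p.2.1 = B) ∧
        ∃ a ∈ [6, 7, 8], 16 * p.1.2.length = 2 ^ a ∧
          ((sumV p.1.1 (pick A bA bB p.1.1) p.1.2 : ℤ) -
              sumV p.2.1 (pick A bA bB p.2.1) p.2.2) % 2 ^ (a - 3) = 2 ^ (a - 4) := by
  decide +kernel

end Cfsg.Agent.InvSym
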