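import Cfsg.Agent.Lib.InvSym.Cyclic

/-!
# An involution with centralizer `2 × S₆` or `2 × S₇` gives a subgroup of index two

The twist of the centralizer by the sign brings the fusion pattern `{t, tz, d, dz}` to
`{t, tz, td, tzd}`.
-/

set_option autoImplicit false
set_option linter.style.haveILetI false
set_option linter.unusedSectionVars false

namespace Cfsg.Agent.InvSym

open Equiv

/-- The product of the group of order two and the symmetric group on seven points. -/
abbrev M7 : Type := Multiplicative (ZMod 2) × Equiv.Perm (Fin 7)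

/-- The model element of a group element. -/
def enc (x : M7) : El := (decide (x.1 ≠ 1), List.ofFn fun i => (x.2 i).val)

theorem enc_fst : ∀ a b : Multiplicative (ZMod 2),
    decide (a * b ≠ 1) = Bool.xor (decide (a ≠ 1)) (decide (b ≠ 1)) := by decide

theorem enc_mul (x y : M7) : enc (x * y) = mul (enc x) (enc y) := by
  refine Prod.ext (enc_fst x.1 y.1) ?_
  simp only [enc, mul, List.map_ofFn, Prod.snd_mul]
  congr 1
  funext i
  simp only [Function.comp_apply, Equiv.Perm.mul_apply]
  rw [List.getD_eq_getElem?_getD, List.getElem?_eq_getElem (by simp), Option.getD_some,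
    List.getElem_ofFn]

theorem mult_two_ext : ∀ a b : Multiplicative (ZMod 2),
    decide (a ≠ 1) = decide (b ≠ 1) → a = b := by decide

theorem enc_injective : Function.Injective enc := by
  intro x y h
  obtain ⟨h1, h2⟩ := Prod.ext_iff.1 h
  refine Prod.ext (mult_two_ext _ _ h1) (Equiv.ext fun i => Fin.ext ?_)
  exact congrFun (List.ofFn_injective (show (List.ofFn fun i => (x.2 i).val) =
    List.ofFn fun i => (y.2 i).val from h2)) i

theorem enc_perm (x : M7) : Perm7 (enc x).2 := by
  refine ⟨by simp [enc], fun n hn => ?_, ?_⟩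
  · simp only [enc, List.mem_ofFn] at hn
    obtain ⟨i, rfl⟩ := hn
    exact (x.2 i).isLt
  · exact List.nodup_ofFn.2 (Fin.val_injective.comp x.2.injective)

theorem enc_surj {e : El} (he : Valid6 e) : ∃ x : M7, x.2 6 = 6 ∧ enc x = e := by
  obtain ⟨⟨hl, hlt, hnd⟩, h6⟩ := he
  let p : Fin 7 → Fin 7 := fun i => ⟨e.2[i.val]'(by omega), hlt _ (List.getElem_mem _)⟩
  have hp : Function.Bijective p := Finite.injective_iff_bijective.1 fun i j hij =>
    Fin.ext (hnd.getElem_inj_iff.1 (congrArg Fin.val hij))
  refine ⟨(if e.1 then Multiplicative.ofAdd 1 else 1, Equiv.ofBijective p hp), ?_, ?_⟩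
  · refine Fin.ext ?_
    show (e.2[6]'(by omega)) = 6
    rw [List.getD_eq_getElem?_getD, List.getElem?_eq_getElem (show 6 < e.2.length by omega),
      Option.getD_some] at h6
    exact h6
  · refine Prod.ext ?_ ?_
    · cases h : e.1 <;> simp [enc]
    · refine List.ext_getElem (by simp [enc, hl]) fun i h1 h2 => ?_
      simp only [enc, List.getElem_ofFn]
      rfl

/-- The sign with values in the group of order two. -/
def sgnHom : ℤˣ →* Multiplicative (ZMod 2) where
  toFun u := if u = 1 then 1 else Multiplicative.ofAdd 1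
  map_one' := by simp
  map_mul' := by decide

/-- The twist by the sign. -/
noncomputable def twist : M7 →* M7 where
  toFun x := (x.1 * sgnHom (Equiv.Perm.sign x.2), x.2)
  map_one' := by simp
  map_mul' x y := by
    refine Prod.ext ?_ rfl
    simp only [Prod.fst_mul, Prod.snd_mul, map_mul]
    ac_rfl

theorem twist_twist (x : M7) : twist (twist x) = x := by
  have h : ∀ a : Multiplicative (ZMod 2), a * a = 1 := by decide
  refine Prod.ext ?_ rfl
  simp [twist, mul_assoc, h]

variable {G : Type*} [Group G] [Finite G]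

/-- The hypothesis in the form used. -/
structure Ident (t : G) where
  ψ : Subgroup.centralizer ({t} : Set G) →* M7
  inj : Function.Injective ψ
  map_t : ψ ⟨t, Subgroup.mem_centralizer_singleton_iff.2 rfl⟩ = (Multiplicative.ofAdd 1, 1)
  surj : ∀ x : M7, x.2 6 = 6 → x ∈ ψ.range

variable {t : G}

/-- The twisted identification. -/
noncomputable def Ident.twisted (I : Ident t) : Ident t where
  ψ := twist.comp I.ψ
  inj := (Function.LeftInverse.injective twist_twist).comp I.inj
  map_t := by
    rw [MonoidHom.comp_apply, I.map_t]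
    refine Prod.ext ?_ rfl
    simp [twist]
  surj x hx := by
    obtain ⟨c, hc⟩ := I.surj (twist x) hx
    exact ⟨c, by rw [MonoidHom.comp_apply, hc, twist_twist]⟩

open Classical in
/-- The setup attached to an identification. -/
noncomputable def Ident.setup (I : Ident t) (ht : t * t = 1) (m : ℕ) (hm : Odd m)
    (hcard : Nat.card (Subgroup.centralizer ({t} : Set G)) = 32 * m) : Setup G where
  t := t
  f x := if h : x * t = t * x then enc (I.ψ ⟨x, Subgroup.mem_centralizer_singleton_iff.2 h⟩)
    else (false, [])
  m := m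
  sq := ht
  ft := by
    rw [dif_pos rfl, I.map_t]
    decide
  odd := hm
  card := hcard
  inj x y hx hy h := by
    rw [dif_pos hx, dif_pos hy] at h
    exact congrArg Subtype.val (I.inj (enc_injective h))
  hom x y hx hy := by
    have hxy : x * y * t = t * (x * y) := by rw [mul_assoc, hy, ← mul_assoc, hx, mul_assoc]
    rw [dif_pos hx, dif_pos hy, dif_pos hxy, ← enc_mul, ← map_mul]
    rfl
  range x hx := by
    rw [dif_pos hx]
    exact enc_perm _
  surj e he := by
    obtain ⟨x, hx6, hx⟩ := enc_surj he
    obtain ⟨⟨c, hc⟩, hcx⟩ := I.surj x hx6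
    refine ⟨c, Subgroup.mem_centralizer_singleton_iff.1 hc, ?_⟩
    rw [dif_pos (Subgroup.mem_centralizer_singleton_iff.1 hc), hcx, hx]

theorem Ident.setup_f (I : Ident t) (ht : t * t = 1) (m : ℕ) (hm : Odd m)
    (hcard : Nat.card (Subgroup.centralizer ({t} : Set G)) = 32 * m) (x : G)
    (hx : x * t = t * x) :
    (I.setup ht m hm hcard).f x =
      enc (I.ψ ⟨x, Subgroup.mem_centralizer_singleton_iff.2 hx⟩) := dif_pos hx

/-- The action of the twist on the indices of the centre. -/
def twIdx (k : ℕ) : ℕ := if k.testBit 2 then k ^^^ 1 else k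

theorem center_twist : ∀ k, k < 8 → twIdx k < 8 ∧
    ∃ m : M7, enc m = el false (twIdx k) ∧ enc (twist m) = el false k := by
  intro k hk
  set σz : Equiv.Perm (Fin 7) := Equiv.swap 0 1 * Equiv.swap 2 3 with hz
  set σd : Equiv.Perm (Fin 7) := Equiv.swap 4 5 with hd
  have s1 : Equiv.Perm.sign σz = 1 := by
    rw [hz, map_mul, Equiv.Perm.sign_swap (by decide), Equiv.Perm.sign_swap (by decide)]
    decide
  have s2 : Equiv.Perm.sign σd = -1 := Equiv.Perm.sign_swap (by decide)
  have s3 : Equiv.Perm.sign (σz * σd) = -1 := by rw [map_mul, s1, s2, one_mul]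
  have hval : ∀ (a : Multiplicative (ZMod 2)) (σ : Equiv.Perm (Fin 7)),
      twist (a, σ) = (a * sgnHom (Equiv.Perm.sign σ), σ) := fun _ _ => rfl
  interval_cases k
  · exact ⟨by decide, ((1, 1) : M7), by decide, by rw [hval, Equiv.Perm.sign_one]; decide⟩
  · exact ⟨by decide, ((Multiplicative.ofAdd 1, 1) : M7), by decide,
      by rw [hval, Equiv.Perm.sign_one]; decide⟩
  · exact ⟨by decide, ((1, σz) : M7), by rw [hz]; decide, by rw [hval, s1, hz]; decide⟩
  · exact ⟨by decide, ((Multiplicative.ofAdd 1, σz) : M7), by rw [hz]; decide,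
      by rw [hval, s1, hz]; decide⟩
  · exact ⟨by decide, ((Multiplicative.ofAdd 1, σd) : M7), by rw [hd]; decide,
      by rw [hval, s2, hd]; decide⟩
  · exact ⟨by decide, ((1, σd) : M7), by rw [hd]; decide, by rw [hval, s2, hd]; decide⟩
  · exact ⟨by decide, ((Multiplicative.ofAdd 1, σz * σd) : M7), by rw [hz, hd]; decide,
      by rw [hval, s3, hz, hd]; decide⟩
  · exact ⟨by decide, ((1, σz * σd) : M7), by rw [hz, hd]; decide,
      by rw [hval, s3, hz, hd]; decide⟩

theorem twisted_pattern : ∀ k ∈ List.range 8,
    inO ((true, true, false, true, false) : OB) (twIdx k) = inO o4 k := by decide +kernel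

theorem Setup.index_two_quad {S : Setup G} (ho : S.HasO o4) : ∃ H : Subgroup G, H.index = 2 := by
  obtain ⟨g3, hg3, h3⟩ := S.mover (k := 3) (by norm_num) (Setup.kz ho (by simp))
  obtain ⟨g5, hg5, h5⟩ := S.mover (k := 5) (by norm_num) (Setup.kz ho (by simp))
  obtain ⟨a3⟩ := S.nact hg3
  obtain ⟨a5⟩ := S.nact hg5
  rcases (Setup.fourth ho hg5 a5 (by simp) h5).2 with hd | hd
  · exact Setup.index_two_klein ho hg3 hg5 a3 a5 h3 h5 hd
  · exact Setup.index_two_cyclic ho hg5 a5 h5 hd

/-- An involution with centralizer of the given kind gives a subgroup of index two. -/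
theorem index_two_of_ident (I : Ident t) (ht : t * t = 1) (m : ℕ) (hm : Odd m)
    (hcard : Nat.card (Subgroup.centralizer ({t} : Set G)) = 32 * m) :
    ∃ H : Subgroup G, H.index = 2 := by
  set S := I.setup ht m hm hcard with hS
  obtain ⟨o, ho⟩ := S.exists_hasO
  rcases validO_cases o ho.validO with h | h | h | h | h
  · exact Setup.index_two_hyp ho h
  · exact Setup.index_two_pair ho h
  · exact (Setup.no_triple ho h).elim
  · exact Setup.index_two_quad (h ▸ ho)
  · set S' := I.twisted.setup ht m hm hcard with hS'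
    refine Setup.index_two_quad (S := S') fun k hk => ?_
    obtain ⟨hk', x, hx1, hx2⟩ := center_twist k hk
    have key : S'.E false k = S.E false (twIdx k) := by
      have hc : S.E false (twIdx k) * t = t * S.E false (twIdx k) :=
        S.E_comm false (by omega)
      refine S'.inj _ _ (S'.E_comm false (by omega)) hc ?_
      rw [S'.f_E false (by omega)]
      have h1 := S.f_E false (show twIdx k < 16 by omega)
      rw [I.setup_f ht m hm hcard _ hc, ← hx1] at h1
      have h2 := enc_injective h1
      rw [I.twisted.setup_f ht m hm hcard _ hc]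
      show el false k = enc (twist (I.ψ _))
      rw [h2, hx2]
    rw [key]
    have := ho (twIdx k) hk'
    rw [h, twisted_pattern k (List.mem_range.2 hk)] at this
    exact this

/-- The form of the two statements. -/
theorem index_two_of_centralizer (n : ℕ) (ι : Equiv.Perm (Fin n) →* Equiv.Perm (Fin 7))
    (hι : Function.Injective ι) (hrange : ∀ σ : Equiv.Perm (Fin 7), σ 6 = 6 → σ ∈ ι.range)
    (hn : 3 ≤ n) (m : ℕ) (hm : Odd m) (hfac : n.factorial = 16 * m) (t : G) (ht : orderOf t = 2)
    (hC : Nonempty (↥(Subgroup.centralizer ({t} : Set G)) ≃*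
      Multiplicative (ZMod 2) × Equiv.Perm (Fin n))) : ∃ H : Subgroup G, H.index = 2 := by
  obtain ⟨e⟩ := hC
  have ht2 : t * t = 1 := by rw [← pow_two, ← ht, pow_orderOf_eq_one]
  set tc : Subgroup.centralizer ({t} : Set G) :=
    ⟨t, Subgroup.mem_centralizer_singleton_iff.2 rfl⟩ with htc
  have hcomm : ∀ x, tc * x = x * tc := fun x =>
    Subtype.ext (Subgroup.mem_centralizer_singleton_iff.1 x.2).symm
  have hne : tc ≠ 1 := fun h => by
    have : t = 1 := congrArg Subtype.val h
    rw [this, orderOf_one] at ht
    omega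
  have he : e tc =
      ((Multiplicative.ofAdd (1 : ZMod 2), 1) :
        Multiplicative (ZMod 2) × Equiv.Perm (Fin n)) := by
    have h2 : (e tc).2 = 1 := by
      have hz : (e tc).2 ∈ Subgroup.center (Equiv.Perm (Fin n)) := by
        rw [Subgroup.mem_center_iff]
        intro σ
        obtain ⟨x, hx⟩ := e.surjective ((1, σ) : Multiplicative (ZMod 2) × Equiv.Perm (Fin n))
        have h := congrArg (fun y => (e y).2) (hcomm x)
        simp only [map_mul, Prod.snd_mul, hx] at h
        exact h.symm
      rw [Subgroup.mem_center_iff] at hz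
      ext a
      by_contra hab
      obtain ⟨c, hca, hcb⟩ : ∃ c : Fin n, c ≠ a ∧ c ≠ (e tc).2 a := by
        by_contra hno
        push Not at hno
        have hsub : (Finset.univ : Finset (Fin n)) ⊆ {a, (e tc).2 a} := fun c _ => by
          by_cases h : c = a
          · simp [h]
          · simp [hno c h]
        have := (Finset.card_le_card hsub).trans Finset.card_le_two
        simp at this
        omega
      have h := congrArg (fun σ : Equiv.Perm (Fin n) => σ a) (hz (Equiv.swap ((e tc).2 a) c))
      simp only [Equiv.Perm.mul_apply, Equiv.swap_apply_left] at h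
      rw [Equiv.swap_apply_of_ne_of_ne (fun h' => hab (by simpa using (congrArg Fin.val h'.symm))) hca.symm] at h
      exact hcb h
    refine Prod.ext ?_ h2
    have h1 : (e tc).1 ≠ 1 := fun h1 => hne (e.injective (by rw [map_one]; exact Prod.ext h1 h2))
    exact (by decide : ∀ a : Multiplicative (ZMod 2), a ≠ 1 → a = Multiplicative.ofAdd 1) _ h1
  refine index_two_of_ident
    (I := { ψ := ((MonoidHom.id _).prodMap ι).comp e.toMonoidHom, inj := ?_, map_t := ?_,
            surj := ?_ }) ht2 m hm ?_
  · intro x y h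
    have h' : ((e x).1, ι (e x).2) = ((e y).1, ι (e y).2) := h
    exact e.injective (Prod.ext (Prod.ext_iff.1 h').1 (hι (Prod.ext_iff.1 h').2))
  · show ((e tc).1, ι (e tc).2) = _
    rw [he]
    exact Prod.ext rfl (map_one ι)
  · intro x hx
    obtain ⟨σ, hσ⟩ := hrange x.2 hx
    obtain ⟨c, hc⟩ := e.surjective (x.1, σ)
    refine ⟨c, ?_⟩
    show ((e c).1, ι (e c).2) = x
    rw [hc, hσ]
  · rw [Nat.card_congr e.toEquiv, Nat.card_prod, Nat.card_perm, Nat.card_fin, hfac,
      Nat.card_eq_fintype_card, Fintype.card_multiplicative, ZMod.card]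
    ring

end Cfsg.Agent.InvSym
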