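import Mathlib

/-!
# A computational model of `2 × S₇` and of its subgroup `2 × S₆`

An element is a Boolean and the list of images of `0, …, 6`. The points of the standard Sylow
2-subgroup `Tl = ⟨t⟩ × D₈ × ⟨(45)⟩` are `0, …, 5`.
-/

set_option autoImplicit false

namespace Cfsg.Agent.InvSym

/-- Elements of the model. -/
abbrev El : Type := Bool × List ℕ

/-- Product of model elements. -/
def mul (x y : El) : El := (Bool.xor x.1 y.1, y.2.map fun i => x.2.getD i 0)

def one : El := (false, [0, 1, 2, 3, 4, 5, 6])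
def t0 : El := (true, [0, 1, 2, 3, 4, 5, 6])
def zE : El := (false, [1, 0, 3, 2, 4, 5, 6])
def dE : El := (false, [0, 1, 2, 3, 5, 4, 6])
def aE : El := (false, [1, 0, 2, 3, 4, 5, 6])
def vE : El := (false, [2, 3, 0, 1, 4, 5, 6])

/-- A permutation of `0, …, 6`. -/
def Perm7 (p : List ℕ) : Prop := p.length = 7 ∧ (∀ x ∈ p, x < 7) ∧ p.Nodup

instance (p : List ℕ) : Decidable (Perm7 p) := by unfold Perm7; infer_instance

/-- A permutation fixing `6`. -/
def Valid6 (x : El) : Prop := Perm7 x.2 ∧ x.2.getD 6 0 = 6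

instance (x : El) : Decidable (Valid6 x) := by unfold Valid6; infer_instance

/-- The basis of the elementary abelian subgroup `i`. -/
def bas (i : Bool) : List El := [t0, zE, dE, if i then vE else aE]

/-- The element of the elementary abelian subgroup `i` with coordinate bits `k`. -/
def el (i : Bool) (k : ℕ) : El :=
  mul (if k.testBit 0 then t0 else one)
    (mul (if k.testBit 1 then zE else one)
      (mul (if k.testBit 2 then dE else one) (if k.testBit 3 then (if i then vE else aE) else one)))

/-- The elementary abelian subgroup `i`. -/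
def Els (i : Bool) : List El := (List.range 16).map (el i)

/-- The Sylow 2-subgroup. -/
def Tl : List El :=
  (Els false).flatMap fun x => [x, mul x vE]

def Tgens : List El := [t0, zE, dE, aE, vE]

/-- A linear map of `GF(2)⁴`, given by the images of `1, 2, 4, 8`. -/
abbrev Lin : Type := ℕ × ℕ × ℕ × ℕ

def app (L : Lin) (k : ℕ) : ℕ :=
  (if k.testBit 0 then L.1 else 0) ^^^
    ((if k.testBit 1 then L.2.1 else 0) ^^^
      ((if k.testBit 2 then L.2.2.1 else 0) ^^^ (if k.testBit 3 then L.2.2.2 else 0)))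

def gm (L M : Lin) : Lin := (app L M.1, app L M.2.1, app L M.2.2.1, app L M.2.2.2)

def idL : Lin := (1, 2, 4, 8)

/-- The images of the basis are in range. -/
def InRange (L : Lin) : Prop := L.1 < 16 ∧ L.2.1 < 16 ∧ L.2.2.1 < 16 ∧ L.2.2.2 < 16

instance (L : Lin) : Decidable (InRange L) := by unfold InRange; infer_instance

/-- The action of `T` outside `E i`. -/
def tauL : Lin := (1, 2, 4, 10)

/-- The maps induced on the elementary abelian subgroup `i` by the centralizer of `t`. -/
def Slist (i : Bool) : List Lin :=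
  if i then
    [(1, 2, 4, 8), (1, 2, 4, 10), (1, 8, 4, 2), (1, 8, 4, 10), (1, 10, 4, 2), (1, 10, 4, 8)]
  else
    [(1, 2, 4, 8), (1, 2, 4, 10), (1, 12, 10, 4), (1, 12, 10, 8), (1, 14, 8, 4), (1, 14, 8, 10)]

/-- Representatives of the maps in `Slist`. -/
def Sreps (i : Bool) : List El :=
  if i then
    [one, (false, [0, 1, 3, 2, 4, 5, 6]), (false, [0, 2, 1, 3, 4, 5, 6]),
      (false, [0, 2, 3, 1, 4, 5, 6]), (false, [0, 3, 1, 2, 4, 5, 6]),
      (false, [0, 3, 2, 1, 4, 5, 6])]
  else
    [one, (false, [2, 3, 0, 1, 4, 5, 6]), (false, [0, 1, 4, 5, 2, 3, 6]),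
      (false, [4, 5, 0, 1, 2, 3, 6]), (false, [4, 5, 2, 3, 0, 1, 6]),
      (false, [2, 3, 4, 5, 0, 1, 6])]

/-- `h` intertwines `el i` and `el j` through `L`. -/
def Intertwines (i j : Bool) (h : El) (L : Lin) : Prop :=
  ∀ k ∈ [1, 2, 4, 8], mul h (el i k) = mul (el j (app L k)) h

instance (i j : Bool) (h : El) (L : Lin) : Decidable (Intertwines i j h L) := by
  unfold Intertwines; infer_instance

/-! ### Enumeration of permutations by prefixes -/

/-- Extend partial permutations. -/
def srch (ok : List ℕ → Bool) : ℕ → List (List ℕ)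
  | 0 => [[]]
  | n + 1 => (srch ok n).flatMap fun p =>
      (List.range 7).filterMap fun v =>
        if !p.contains v && ok (p ++ [v]) then some (p ++ [v]) else none

theorem mem_srch (ok : List ℕ → Bool) :
    ∀ (n : ℕ) (p : List ℕ), p.length = n → p.Nodup → (∀ x ∈ p, x < 7) →
      (∀ k, k ≤ n → 1 ≤ k → ok (p.take k) = true) → p ∈ srch ok n
  | 0, p, hl, _, _, _ => by
      rw [List.length_eq_zero_iff] at hl
      simp [srch, hl]
  | n + 1, p, hl, hnd, hlt, hok => by
      obtain ⟨q, v, rfl⟩ : ∃ q v, p = q ++ [v] := by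
        rcases List.eq_nil_or_concat p with rfl | ⟨q, v, rfl⟩
        · simp at hl
        · exact ⟨q, v, by simp⟩
      have hlq : q.length = n := by simpa using hl
      rw [List.nodup_append] at hnd
      have hq : q ∈ srch ok n := by
        refine mem_srch ok n q hlq hnd.1 (fun x hx => hlt x (by simp [hx])) fun k hk hk1 => ?_
        have h := hok k (by omega) hk1
        rwa [List.take_append_of_le_length (by omega)] at h
      have hv : v ∉ q := fun h => hnd.2.2 v h v (by simp) rfl
      have hall : ok (q ++ [v]) = true := by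
        have h := hok (n + 1) le_rfl (by omega)
        rwa [List.take_of_length_le (by simp [hlq])] at h
      simp only [srch, List.mem_flatMap, List.mem_filterMap]
      exact ⟨q, hq, v, List.mem_range.2 (hlt v (by simp)), by simp [hv, hall]⟩

/-- A prefix is compatible with conjugating each of `gens` into `tgt`. -/
def okN (gens tgt : List El) (p : List ℕ) : Bool :=
  gens.all fun s => tgt.any fun s' =>
    (s.1 == s'.1) && (List.range p.length).all fun j =>
      !decide (s.2.getD j 0 < p.length) || (p.getD (s.2.getD j 0) 0 == s'.2.getD (p.getD j 0) 0)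

/-- Permutations conjugating each of `gens` into `tgt`. -/
def nL (gens tgt : List El) : List (List ℕ) := srch (okN gens tgt) 7

theorem mem_nL {gens tgt : List El} {h : El} (hp : Perm7 h.2)
    (hgens : ∀ s ∈ gens, s.2.length = 7)
    (hc : ∀ s ∈ gens, ∃ s' ∈ tgt, mul h s = mul s' h) : h.2 ∈ nL gens tgt := by
  obtain ⟨hl, hlt, hnd⟩ := hp
  refine mem_srch _ 7 _ hl hnd hlt fun k hk _ => ?_
  simp only [okN, List.all_eq_true, List.any_eq_true, Bool.and_eq_true, List.mem_range]
  intro s hs
  obtain ⟨s', hs', he⟩ := hc s hs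
  obtain ⟨e1, e2⟩ := Prod.ext_iff.1 he
  refine ⟨s', hs', ?_, fun j hj => ?_⟩
  · simp only [mul] at e1
    revert e1
    cases h.1 <;> cases s.1 <;> cases s'.1 <;> decide
  · rw [List.length_take] at hj
    simp only [mul] at e2
    have e3 := congrArg (fun l : List ℕ => l[j]?) e2
    simp only [List.getElem?_map] at e3
    have hj1 : j < s.2.length := by rw [hgens s hs]; omega
    have hj2 : j < h.2.length := by omega
    rw [List.getElem?_eq_getElem hj1, List.getElem?_eq_getElem hj2] at e3
    simp only [Option.map_some, Option.some.injEq] at e3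
    rw [List.length_take]
    simp only [Bool.or_eq_true, Bool.not_eq_true', decide_eq_false_iff_not, beq_iff_eq]
    by_cases hsj : s.2.getD j 0 < min k h.2.length
    · right
      have hsj' : s.2.getD j 0 < k := by omega
      have ha : (h.2.take k).getD (s.2.getD j 0) 0 = h.2.getD (s.2.getD j 0) 0 := by
        simp only [List.getD_eq_getElem?_getD] at hsj' ⊢
        rw [List.getElem?_take_of_lt hsj']
      have hb : (h.2.take k).getD j 0 = h.2.getD j 0 := by
        simp only [List.getD_eq_getElem?_getD]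
        rw [List.getElem?_take_of_lt (show j < k by omega)]
      rw [ha, hb]
      simpa [List.getD, List.getElem?_eq_getElem hj1, List.getElem?_eq_getElem hj2] using e3
    · exact Or.inl hsj

/-! ### Facts about the model -/

theorem bits_cases {k : ℕ} (hk : k < 16) : k ∈ List.range 16 := List.mem_range.2 hk

theorem el_mul_table : ∀ i : Bool, ∀ k ∈ List.range 16, ∀ l ∈ List.range 16,
    mul (el i k) (el i l) = el i (k ^^^ l) := by decide +kernel

theorem el_inj_table : ∀ i : Bool, (Els i).Nodup := by decide +kernel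

theorem el_valid : ∀ i : Bool, ∀ k ∈ List.range 16, Valid6 (el i k) ∧ el i k ∈ Tl := by
  decide +kernel

theorem el_zero : ∀ i : Bool, el i 0 = one ∧ el i 1 = t0 := by decide +kernel

theorem el_low : ∀ k ∈ List.range 8, el false k = el true k := by decide +kernel

theorem Tl_facts : Tl.Nodup ∧ Tl.length = 32 ∧ (∀ x ∈ Tl, Valid6 x) ∧ t0 ∈ Tl := by decide +kernel

theorem Tl_mul : ∀ x ∈ Tl, ∀ y ∈ Tl, mul x y ∈ Tl := by decide +kernel

theorem Tgens_facts : (∀ s ∈ Tgens, s.2.length = 7 ∧ s ∈ Tl) ∧
    ∀ i : Bool, ∀ s ∈ bas i, s.2.length = 7 ∧ s ∈ Els i := by decide +kernel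

theorem norm_T : ∀ p ∈ nL Tgens Tl, ∀ b : Bool, ((b, p) : El) ∈ Tl := by decide +kernel

set_option synthInstance.maxSize 2000 in
set_option synthInstance.maxHeartbeats 400000 in
theorem norm_E : ∀ i : Bool, ∀ p ∈ nL (bas i) (Els i), ∀ b : Bool,
    Valid6 (b, p) ∧ ∃ L ∈ Slist i, Intertwines i i (b, p) L ∧
      (¬ L = idL ∨ ((b, p) : El) ∈ Els i) ∧ (¬ L = tauL ∨ ((b, p) : El) ∈ Tl) := by decide +kernel

theorem Tl_acts : ∀ i : Bool, ∀ x ∈ Tl,
    (Intertwines i i x idL ∧ x ∈ Els i) ∨ Intertwines i i x tauL := by decide +kernel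

theorem Slist_realised : ∀ i : Bool, ∀ L ∈ Slist i, ∃ h ∈ Sreps i,
    Valid6 h ∧ Intertwines i i h L := by decide +kernel

theorem Slist_range : ∀ i : Bool, ∀ L ∈ Slist i, InRange L ∧ app L 1 = 1 := by decide +kernel

/-- The centre of the Sylow subgroup. -/
theorem Tl_center : ∀ x ∈ Tl, (∀ s ∈ Tgens, mul x s = mul s x) ↔
    x ∈ (List.range 8).map (el false) := by decide +kernel

theorem Tl_squares : (∀ x ∈ Tl, mul x x = one ∨ mul x x = el false 2) ∧
    ∃ x ∈ Tl, mul x x = el false 2 := by decide +kernel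

/-- Every involution of the Sylow subgroup lies in one of the two elementary subgroups. -/
theorem Tl_involution : ∀ x ∈ Tl, mul x x = one → x ∈ Els false ∨ x ∈ Els true := by
  decide +kernel

/-- Commuting elements of the two elementary subgroups. -/
theorem el_commute : ∀ k ∈ List.range 16, ∀ l ∈ List.range 16,
    mul (el false k) (el true l) = mul (el true l) (el false k) → k < 8 ∨ l < 8 := by
  decide +kernel

/-- The central element that each element of an elementary subgroup is conjugate to. -/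
def zrep (i : Bool) (k : ℕ) : ℕ :=
  if i then
    [0, 1, 2, 3, 4, 5, 6, 7, 2, 3, 2, 3, 6, 7, 6, 7].getD k 0
  else
    [0, 1, 2, 3, 4, 5, 6, 7, 4, 5, 4, 5, 2, 3, 2, 3].getD k 0

/-- Elements used to conjugate into the centre. -/
def Hs : List El :=
  [one, (false, [4, 5, 2, 3, 0, 1, 6]), (false, [0, 1, 4, 5, 2, 3, 6]),
    (false, [2, 3, 4, 5, 0, 1, 6]), (false, [4, 5, 0, 1, 2, 3, 6]),
    (false, [2, 3, 0, 1, 4, 5, 6]), (false, [0, 2, 1, 3, 4, 5, 6]),
    (false, [0, 3, 2, 1, 4, 5, 6]), (false, [0, 2, 3, 1, 4, 5, 6]),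
    (false, [0, 3, 1, 2, 4, 5, 6]), (false, [1, 0, 3, 2, 4, 5, 6])]

theorem zrep_spec : ∀ i : Bool, ∀ k ∈ List.range 16, zrep i k < 8 ∧
    ∃ h ∈ Hs, Valid6 h ∧ mul h (el i k) = mul (el false (zrep i k)) h := by decide +kernel

end Cfsg.Agent.InvSym
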