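import Cfsg.Agent.Lib.InvSym.Setup

/-!
# The normaliser of the Sylow subgroup of the centralizer
-/

set_option autoImplicit false
set_option linter.style.haveILetI false
set_option linter.unusedSectionVars false

namespace Cfsg.Agent.InvSym

/-- Conjugates of `t` among the central elements with indices `3, 4, 5, 6, 7`. -/
abbrev OB : Type := Bool × Bool × Bool × Bool × Bool

def inO (o : OB) : ℕ → Bool
  | 1 => true
  | 3 => o.1
  | 4 => o.2.1
  | 5 => o.2.2.1
  | 6 => o.2.2.2.1
  | 7 => o.2.2.2.2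
  | _ => false

/-- Is the element `el i k` conjugate to `t`? -/
def kK (o : OB) (i : Bool) (k : ℕ) : Bool := inO o (zrep i k)

/-- A map of the centre fixing `z`. -/
def ZL (x d : ℕ) : Lin := (x, 2, d, 0)

/-- The conditions on a map of the centre induced by the normaliser. -/
def GoodZ (o : OB) (x d : ℕ) : Prop :=
  ((List.range 8).map (app (ZL x d))).Nodup ∧ (∀ k ∈ List.range 8, app (ZL x d) k < 8) ∧
    (∀ k ∈ List.range 8, inO o (app (ZL x d) k) = inO o k) ∧
    (∀ k ∈ List.range 8, ¬ (inO o k = true ∧ app (ZL x d) k = k) ∨ (x = 1 ∧ d = 4)) ∧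
    (¬ app (ZL x d) x = 1 ∨ app (ZL x d) d = 4)

instance (o : OB) (x d : ℕ) : Decidable (GoodZ o x d) := by unfold GoodZ; infer_instance

/-- Every conjugate of `t` in the centre is reached by a good map. -/
def ValidO (o : OB) : Prop :=
  ∀ x ∈ [3, 4, 5, 6, 7], ¬ inO o x = true ∨ ∃ d ∈ List.range 8, GoodZ o x d

instance (o : OB) : Decidable (ValidO o) := by unfold ValidO; infer_instance

set_option synthInstance.maxSize 4000 in
set_option synthInstance.maxHeartbeats 1000000 in
/-- The classification of the possible fusion in the centre. -/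
theorem validO_cases : ∀ o : OB, ValidO o →
    o ∈ [((false, false, false, false, false) : OB), (false, true, false, false, false),
        (false, false, true, false, false), (false, false, false, true, false),
        (false, false, false, false, true)] ∨
      o = (true, false, false, false, false) ∨
      o ∈ [((false, true, true, false, false) : OB), (false, true, false, false, true),
        (false, false, true, true, false), (false, false, false, true, true)] ∨
      o = (true, false, true, false, true) ∨ o = (true, true, false, true, false) := by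
  decide +kernel

theorem low_mul_table : ∀ k ∈ List.range 8, ∀ l ∈ List.range 8, k ^^^ l < 8 := by decide +kernel

theorem app_ZL_table : ∀ x ∈ List.range 8, ∀ d ∈ List.range 8, ∀ k ∈ List.range 8,
    app (ZL x d) k < 8 := by decide +kernel

variable {G : Type*} [Group G] [Finite G]

namespace Setup

variable (S : Setup G)

/-- Normalising `T`. -/
def NormT (g : G) : Prop := ∀ x ∈ S.T, g * x * g⁻¹ ∈ S.T

variable {S}

theorem NormT.mul {g h : G} (hg : S.NormT g) (hh : S.NormT h) : S.NormT (g * h) := by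
  intro x hx
  have h1 := hg _ (hh x hx)
  rwa [show g * (h * x * h⁻¹) * g⁻¹ = g * h * x * (g * h)⁻¹ by group] at h1

theorem NormT.of_mem {g : G} (hg : g ∈ S.T) : S.NormT g :=
  fun _ hx => S.T.mul_mem (S.T.mul_mem hg hx) (S.T.inv_mem hg)

theorem NormT.inv {g : G} (hg : S.NormT g) : S.NormT g⁻¹ := by
  intro x hx
  have hinj : Function.Injective (fun y : S.T => (⟨g * y.1 * g⁻¹, hg y.1 y.2⟩ : S.T)) :=
    fun a b hab => Subtype.ext (mul_left_cancel (mul_right_cancel (congrArg Subtype.val hab)))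
  obtain ⟨y, hy⟩ := (Finite.injective_iff_surjective.1 hinj) ⟨x, hx⟩
  have hy' : g * y.1 * g⁻¹ = x := congrArg Subtype.val hy
  rw [← hy']
  simp only [mul_assoc, inv_mul_cancel_left, inv_inv, inv_mul_cancel, mul_one]
  exact y.2

theorem NormT.conj_inv {g : G} (hg : S.NormT g) {x : G} (hx : x ∈ S.T) :
    g⁻¹ * x * g ∈ S.T := by
  have := hg.inv x hx
  rwa [inv_inv] at this

theorem NormT.mem_T {g : G} (hg : S.NormT g) (hc : g * S.t = S.t * g) : g ∈ S.T := by
  have hp : (S.f g).2 ∈ nL Tgens Tl := by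
    refine mem_nL (S.range g hc) (fun s hs => (Tgens_facts.1 s hs).1) fun s hs => ?_
    have hsT := S.pre_mem_T (Tgens_facts.1 s hs).2
    refine ⟨S.f (g * S.pre s * g⁻¹), (hg _ hsT).2, ?_⟩
    rw [← S.hom _ _ (hg _ hsT).1 hc, inv_mul_cancel_right, S.hom _ _ hc hsT.1,
      S.f_pre (Tl_facts.2.2.1 s (Tgens_facts.1 s hs).2)]
  have := norm_T _ hp (S.f g).1
  exact ⟨hc, this⟩

theorem E_low_comm {k : ℕ} (hk : k < 8) {x : G} (hx : x ∈ S.T) :
    S.E false k * x = x * S.E false k := by
  rcases S.T_map false hx with h | h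
  · have := h.2 k (by omega)
    rw [app_idL (by omega : k < 16)] at this
    exact this.symm
  · have := h.2 k (by omega)
    rw [show app tauL k = k from
      (by decide +kernel : ∀ k ∈ List.range 8, app tauL k = k) k (List.mem_range.2 hk)] at this
    exact this.symm

theorem conj_z {g : G} (hg : S.NormT g) : g * S.E false 2 * g⁻¹ = S.E false 2 := by
  obtain ⟨x, hx, hx2⟩ := Tl_squares.2
  have hxT := S.pre_mem_T hx
  have h2 : S.pre x * S.pre x = S.E false 2 := by
    refine S.inj _ _ (S.comm_mul hxT.1 hxT.1) (S.E_comm false (by norm_num)) ?_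
    rw [S.hom _ _ hxT.1 hxT.1, S.f_pre (Tl_facts.2.2.1 x hx), hx2, S.f_E false (by norm_num)]
  have hy := hg _ hxT
  have hyy : g * S.E false 2 * g⁻¹ = g * S.pre x * g⁻¹ * (g * S.pre x * g⁻¹) := by
    rw [← h2]; group
  rcases Tl_squares.1 _ hy.2 with h | h
  · exfalso
    have h1 : g * S.E false 2 * g⁻¹ = 1 := by
      rw [hyy]
      exact S.inj _ _ (S.comm_mul hy.1 hy.1) (by simp) (by rw [S.hom _ _ hy.1 hy.1, h, S.f_one])
    rw [mul_inv_eq_one, mul_eq_left] at h1
    have := S.E_inj false (k := 2) (l := 0) (by norm_num) (by norm_num) (by rw [h1, S.E_zero])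
    omega
  · rw [hyy]
    exact S.inj _ _ (S.comm_mul hy.1 hy.1) (S.E_comm false (by norm_num))
      (by rw [S.hom _ _ hy.1 hy.1, h, S.f_E false (by norm_num)])

theorem conj_center {g : G} (hg : S.NormT g) {k : ℕ} (hk : k < 8) :
    ∃ l, l < 8 ∧ g * S.E false k * g⁻¹ = S.E false l := by
  have hy := hg _ (S.E_mem_T false (k := k) (by omega))
  have hcomm : ∀ s ∈ Tgens, mul (S.f (g * S.E false k * g⁻¹)) s =
      mul s (S.f (g * S.E false k * g⁻¹)) := by
    intro s hs
    have hsT := S.pre_mem_T (Tgens_facts.1 s hs).2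
    have hc := S.E_low_comm hk (hg.conj_inv hsT)
    have he : g * S.E false k * g⁻¹ * S.pre s = S.pre s * (g * S.E false k * g⁻¹) := by
      calc g * S.E false k * g⁻¹ * S.pre s
          = g * (S.E false k * (g⁻¹ * S.pre s * g)) * g⁻¹ := by group
        _ = g * (g⁻¹ * S.pre s * g * S.E false k) * g⁻¹ := by rw [hc]
        _ = S.pre s * (g * S.E false k * g⁻¹) := by group
    have h2 := congrArg S.f he
    rwa [S.hom _ _ hy.1 hsT.1, S.hom _ _ hsT.1 hy.1,
      S.f_pre (Tl_facts.2.2.1 s (Tgens_facts.1 s hs).2)] at h2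
  obtain ⟨l, hl, hl'⟩ := List.mem_map.1 ((Tl_center _ hy.2).1 hcomm)
  have hl8 := List.mem_range.1 hl
  exact ⟨l, hl8, S.inj _ _ hy.1 (S.E_comm false (by omega))
    (by rw [← hl', S.f_E false (by omega)])⟩

/-- An element normalising `T` maps the elementary subgroups to each other. -/
structure NAct (S : Setup G) (g : G) where
  swap : Bool
  L : Bool → Lin
  map : ∀ i, S.Map i (Bool.xor swap i) g (L i)
  low : ∀ i k, k < 8 → app (L i) k < 8 ∧ app (L i) k = app (L false) k
  fixz : ∀ i, app (L i) 2 = 2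

theorem conj_eq {i : Bool} {g : G} {k : ℕ} {y : G} (h : g * S.E i k * g⁻¹ = y) :
    g * S.E i k = y * g := by rw [← h]; group

/-- The image of each elementary subgroup. -/
theorem image_exists {g : G} (hg : S.NormT g) (i : Bool) :
    ∃ j : Bool, ∀ k, k < 16 → ∃ l, l < 16 ∧ g * S.E i k * g⁻¹ = S.E j l := by
  have key : ∀ k, k < 16 → ∃ j : Bool, ∃ l, l < 16 ∧ g * S.E i k * g⁻¹ = S.E j l := by
    intro k hk
    have hy := hg _ (S.E_mem_T i hk)
    have hsq : mul (S.f (g * S.E i k * g⁻¹)) (S.f (g * S.E i k * g⁻¹)) = one := by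
      rw [← S.hom _ _ hy.1 hy.1, show g * S.E i k * g⁻¹ * (g * S.E i k * g⁻¹) =
        g * (S.E i k * S.E i k) * g⁻¹ by group, S.E_sq i hk, mul_one, mul_inv_cancel, S.f_one]
    rcases Tl_involution _ hy.2 hsq with h | h
    · obtain ⟨l, hl, hl'⟩ := List.mem_map.1 h
      exact ⟨false, l, List.mem_range.1 hl, S.inj _ _ hy.1 (S.E_comm _ (List.mem_range.1 hl))
        (by rw [← hl', S.f_E _ (List.mem_range.1 hl)])⟩
    · obtain ⟨l, hl, hl'⟩ := List.mem_map.1 h
      exact ⟨true, l, List.mem_range.1 hl, S.inj _ _ hy.1 (S.E_comm _ (List.mem_range.1 hl))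
        (by rw [← hl', S.f_E _ (List.mem_range.1 hl)])⟩
  obtain ⟨j, l, hl, hjl⟩ := key 8 (by norm_num)
  have hl8 : ¬ l < 8 := by
    intro h8
    obtain ⟨r, hr, hr'⟩ := conj_center hg.inv h8
    rw [inv_inv, ← S.E_low j false h8, ← hjl,
      show g⁻¹ * (g * S.E i 8 * g⁻¹) * g = S.E i 8 by group, S.E_low false i hr] at hr'
    have := S.E_inj i (k := 8) (l := r) (by norm_num) (by omega) hr'
    omega
  refine ⟨j, fun k hk => ?_⟩
  obtain ⟨j', l', hl', hjl'⟩ := key k hk
  by_cases hjj : j' = j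
  · exact hjj ▸ ⟨l', hl', hjl'⟩
  · have hcomm : S.E j l * S.E j' l' = S.E j' l' * S.E j l := by
      rw [← hjl, ← hjl',
        show g * S.E i 8 * g⁻¹ * (g * S.E i k * g⁻¹) = g * (S.E i 8 * S.E i k) * g⁻¹ by group,
        show g * S.E i k * g⁻¹ * (g * S.E i 8 * g⁻¹) = g * (S.E i k * S.E i 8) * g⁻¹ by group,
        S.E_mul i (by norm_num) hk, S.E_mul i hk (by norm_num), Nat.xor_comm]
    have he := congrArg S.f hcomm
    rw [S.hom _ _ (S.E_comm _ hl) (S.E_comm _ hl'), S.hom _ _ (S.E_comm _ hl') (S.E_comm _ hl),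
      S.f_E _ hl, S.f_E _ hl'] at he
    have hlow : l' < 8 := by
      cases j <;> cases j' <;> first | exact absurd rfl hjj | skip
      · exact ((el_commute l (bits_cases hl) l' (bits_cases hl') he).resolve_left hl8)
      · exact ((el_commute l' (bits_cases hl') l (bits_cases hl) he.symm).resolve_right hl8)
    exact ⟨l', hl', by rw [hjl', S.E_low j' j hlow]⟩

theorem exists_map {g : G} {i j : Bool}
    (h : ∀ k, k < 16 → ∃ l, l < 16 ∧ g * S.E i k * g⁻¹ = S.E j l) : ∃ L, S.Map i j g L := by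
  obtain ⟨a, ha, ha'⟩ := h 1 (by norm_num)
  obtain ⟨b, hb, hb'⟩ := h 2 (by norm_num)
  obtain ⟨c, hc, hc'⟩ := h 4 (by norm_num)
  obtain ⟨e, he, he'⟩ := h 8 (by norm_num)
  refine ⟨(a, b, c, e), Map.of_basis ⟨ha, hb, hc, he⟩ fun k hk => ?_⟩
  simp only [List.mem_cons, List.not_mem_nil, or_false] at hk
  rcases hk with rfl | rfl | rfl | rfl
  · rw [app_one]; exact conj_eq ha'
  · rw [app_two]; exact conj_eq hb'
  · rw [app_four]; exact conj_eq hc'
  · rw [app_eight]; exact conj_eq he'

theorem Map.conj {i j : Bool} {g : G} {L : Lin} (h : S.Map i j g L) {k : ℕ} (hk : k < 16) :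
    g * S.E i k * g⁻¹ = S.E j (app L k) := by rw [h.2 k hk, mul_inv_cancel_right]

theorem nact {g : G} (hg : S.NormT g) : Nonempty (S.NAct g) := by
  obtain ⟨j0, h0⟩ := image_exists hg false
  obtain ⟨j1, h1⟩ := image_exists hg true
  obtain ⟨L0, hL0⟩ := exists_map h0
  obtain ⟨L1, hL1⟩ := exists_map h1
  have hne : j1 = !j0 := by
    by_contra hne
    have hjj : j1 = j0 := by cases j0 <;> cases j1 <;> simp at hne ⊢
    subst hjj
    obtain ⟨L', hL', -⟩ := hL0.inv
    have h8 := (hL1.conj (k := 8) (by norm_num))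
    have h9 := hL'.conj (app_lt hL1.1 8)
    rw [← h8, inv_inv, show g⁻¹ * (g * S.E true 8 * g⁻¹) * g = S.E true 8 by group] at h9
    have hh := congrArg S.f h9
    rw [S.f_E _ (by norm_num), S.f_E _ (app_lt hL'.1 _)] at hh
    exact (by decide +kernel : ∀ l ∈ List.range 16, el true 8 ≠ el false l) _
      (bits_cases (app_lt hL'.1 _)) hh
  subst hne
  have hlow : ∀ k, k < 8 → app L0 k < 8 ∧ app L1 k = app L0 k := by
    intro k hk
    obtain ⟨l, hl, hl'⟩ := conj_center hg hk
    have e0 : app L0 k = l := S.E_inj j0 (app_lt hL0.1 k) (by omega)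
      (by rw [← hL0.conj (show k < 16 by omega), hl', S.E_low false j0 hl])
    have e1 : app L1 k = l := S.E_inj (!j0) (app_lt hL1.1 k) (by omega)
      (by rw [← hL1.conj (show k < 16 by omega), S.E_low true false hk, hl',
        S.E_low false (!j0) hl])
    exact ⟨by omega, by omega⟩
  have hz : app L0 2 = 2 := S.E_inj j0 (app_lt hL0.1 2) (by norm_num)
    (by rw [← hL0.conj (show 2 < 16 by omega), S.conj_z hg, S.E_low false j0 (by norm_num)])
  refine ⟨⟨j0, fun i => if i then L1 else L0, fun i => ?_, fun i k hk => ?_, fun i => ?_⟩⟩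
  · cases i
    · simpa using hL0
    · simpa using hL1
  · cases i
    · exact ⟨(hlow k hk).1, rfl⟩
    · exact ⟨by simpa [(hlow k hk).2] using (hlow k hk).1, by simpa using (hlow k hk).2⟩
  · cases i
    · simpa using hz
    · simpa [(hlow 2 (by norm_num)).2] using hz

/-- A pair of subgroups of order 32 inside the centralizer are conjugate there. -/
theorem into_T {P : Subgroup G} (hP : IsPGroup 2 P) (hc : ∀ x ∈ P, x * S.t = S.t * x) :
    ∃ c, c * S.t = S.t * c ∧ ∀ x ∈ P, c * x * c⁻¹ ∈ S.T := by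
  haveI : Fact (Nat.Prime 2) := ⟨Nat.prime_two⟩
  set C := Subgroup.centralizer ({S.t} : Set G) with hC
  have hmem : ∀ {x : G}, x ∈ C ↔ x * S.t = S.t * x := fun {x} =>
    Subgroup.mem_centralizer_singleton_iff
  have hTC : S.T ≤ C := fun x hx => hmem.2 hx.1
  have hcardT : Nat.card (S.T.subgroupOf C) = 2 ^ 5 := by
    rw [Nat.card_congr (Subgroup.subgroupOfEquivOfLe hTC).toEquiv, S.card_T]
    norm_num
  have hTp : IsPGroup 2 (S.T.subgroupOf C) := IsPGroup.of_card hcardT
  have hidx : ¬ 2 ∣ (S.T.subgroupOf C).index := by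
    have h := (S.T.subgroupOf C).index_mul_card
    rw [hcardT, S.card] at h
    have : (S.T.subgroupOf C).index = S.m := by omega
    rw [this]
    exact fun h2 => (Nat.not_even_iff_odd.2 S.odd) (even_iff_two_dvd.2 h2)
  have hPC : P ≤ C := fun x hx => hmem.2 (hc x hx)
  have hPp : IsPGroup 2 (P.subgroupOf C) :=
    hP.of_equiv (Subgroup.subgroupOfEquivOfLe hPC).symm
  obtain ⟨Q, hQ⟩ := hPp.exists_le_sylow
  obtain ⟨c, hcQ⟩ := MulAction.exists_smul_eq C Q (hTp.toSylow hidx)
  refine ⟨c.1, hmem.1 c.2, fun x hx => ?_⟩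
  have hxQ : (⟨x, hPC hx⟩ : C) ∈ Q.toSubgroup := hQ (by simpa [Subgroup.mem_subgroupOf] using hx)
  have h2 : MulAut.conj c (⟨x, hPC hx⟩ : C) ∈ (hTp.toSylow hidx).toSubgroup := by
    rw [← hcQ, Sylow.coe_subgroup_smul]
    exact Subgroup.smul_mem_pointwise_smul _ _ _ hxQ
  simpa [Subgroup.mem_subgroupOf] using h2

/-- The conjugates of `t` in the centre are conjugate under the normaliser of `T`. -/
theorem mover {k : ℕ} (hk : k < 8) (h : IsConj S.t (S.E false k)) :
    ∃ g, S.NormT g ∧ g * S.t * g⁻¹ = S.E false k := by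
  obtain ⟨h0, hh⟩ := isConj_iff.1 h
  have hP : IsPGroup 2 (S.T.map (MulAut.conj h0⁻¹).toMonoidHom) := by
    refine IsPGroup.of_card (n := 5) ?_
    rw [Subgroup.card_map_of_injective (MulEquiv.injective _), S.card_T]
    norm_num
  have hPc : ∀ x ∈ S.T.map (MulAut.conj h0⁻¹).toMonoidHom, x * S.t = S.t * x := by
    rintro x ⟨y, hy, rfl⟩
    have hc := S.E_low_comm hk hy
    simp only [MulEquiv.coe_toMonoidHom, MulAut.conj_apply, inv_inv]
    calc h0⁻¹ * y * h0 * S.t = h0⁻¹ * (y * (h0 * S.t * h0⁻¹)) * h0 := by group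
      _ = h0⁻¹ * (S.E false k * y) * h0 := by rw [hh, hc]
      _ = S.t * (h0⁻¹ * y * h0) := by rw [← hh]; group
  obtain ⟨c, hc, hcT⟩ := S.into_T hP hPc
  have hn : S.NormT (c * h0⁻¹) := by
    intro y hy
    have h1 := hcT _ ⟨y, hy, rfl⟩
    simp only [MulEquiv.coe_toMonoidHom, MulAut.conj_apply, inv_inv] at h1
    rwa [show c * h0⁻¹ * y * (c * h0⁻¹)⁻¹ = c * (h0⁻¹ * y * h0) * c⁻¹ by group]
  refine ⟨(c * h0⁻¹)⁻¹, hn.inv, ?_⟩
  calc (c * h0⁻¹)⁻¹ * S.t * (c * h0⁻¹)⁻¹⁻¹ = h0 * (c⁻¹ * (S.t * c)) * h0⁻¹ := by group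
    _ = h0 * (c⁻¹ * (c * S.t)) * h0⁻¹ := by rw [hc]
    _ = S.E false k := by rw [inv_mul_cancel_left, hh]

theorem not_conj_one : ¬ IsConj S.t (S.E false 0) := by
  intro h
  rw [S.E_zero] at h
  obtain ⟨g, hg⟩ := isConj_iff.1 h
  rw [mul_inv_eq_one, mul_eq_left] at hg
  have := S.E_inj false (k := 1) (l := 0) (by norm_num) (by norm_num)
    (by rw [S.E_one, S.E_zero, hg])
  omega

theorem not_conj_z : ¬ IsConj S.t (S.E false 2) := by
  intro h
  obtain ⟨g, hg, hgt⟩ := S.mover (k := 2) (by norm_num) h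
  have h2 := S.conj_z hg
  rw [← S.E_one false] at hgt
  have := S.E_inj false (k := 1) (l := 2) (by norm_num) (by norm_num)
    (mul_left_cancel (mul_right_cancel (hgt.trans h2.symm)))
  omega

/-- `o` records the fusion in the centre. -/
def HasO (S : Setup G) (o : OB) : Prop :=
  ∀ k, k < 8 → (IsConj S.t (S.E false k) ↔ inO o k = true)

theorem exists_hasO : ∃ o : OB, S.HasO o := by
  classical
  refine ⟨(decide (IsConj S.t (S.E false 3)), decide (IsConj S.t (S.E false 4)),
    decide (IsConj S.t (S.E false 5)), decide (IsConj S.t (S.E false 6)),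
    decide (IsConj S.t (S.E false 7))), fun k hk => ?_⟩
  interval_cases k
  · exact iff_of_false S.not_conj_one (by simp [inO])
  · exact iff_of_true (by rw [S.E_one]) rfl
  · exact iff_of_false S.not_conj_z (by simp [inO])
  all_goals simp [inO]

variable {o : OB}

/-- Fusion of all elements of the elementary subgroups. -/
theorem HasO.mem (ho : S.HasO o) (i : Bool) {k : ℕ} (hk : k < 16) :
    IsConj S.t (S.E i k) ↔ kK o i k = true := by
  obtain ⟨hz, h, -, hv, he⟩ := zrep_spec i k (bits_cases hk)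
  have hh : S.pre h * S.E i k * (S.pre h)⁻¹ = S.E false (zrep i k) := by
    rw [mul_inv_eq_iff_eq_mul]
    refine S.inj _ _ (S.comm_mul (S.pre_comm hv) (S.E_comm i hk))
      (S.comm_mul (S.E_comm false (by omega)) (S.pre_comm hv)) ?_
    rw [S.hom _ _ (S.pre_comm hv) (S.E_comm i hk),
      S.hom _ _ (S.E_comm false (by omega)) (S.pre_comm hv), S.f_pre hv, S.f_E i hk,
      S.f_E false (by omega)]
    exact he
  have hc : IsConj (S.E i k) (S.E false (zrep i k)) := isConj_iff.2 ⟨_, hh⟩
  rw [kK, ← ho _ hz]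
  exact ⟨fun h => h.trans hc, fun h => h.trans hc.symm⟩

theorem isConj_conj_iff (g x : G) : IsConj S.t (g * x * g⁻¹) ↔ IsConj S.t x :=
  ⟨fun h => h.trans (isConj_iff.2 ⟨g⁻¹, by group⟩), fun h => h.trans (isConj_iff.2 ⟨g, rfl⟩)⟩

theorem HasO.map_pres (ho : S.HasO o) {i j : Bool} {g : G} {L : Lin} (h : S.Map i j g L)
    {k : ℕ} (hk : k < 16) : kK o j (app L k) = kK o i k := by
  have := (ho.mem j (app_lt h.1 k)).symm.trans
    ((h.conj hk ▸ S.isConj_conj_iff g (S.E i k)).trans (ho.mem i hk))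
  exact Bool.eq_iff_iff.2 this

/-- The normaliser element fixing `t` acts trivially on the centre. -/
theorem trivial_of_fix {g : G} (hg : S.NormT g) {y : ℕ} (hy : y < 8)
    (hK : IsConj S.t (S.E false y)) (hfix : g * S.E false y * g⁻¹ = S.E false y) : g ∈ S.T := by
  obtain ⟨r, hr, hrt⟩ := S.mover hy hK
  have h1 : S.NormT (r⁻¹ * g * r) := (hr.inv.mul hg).mul hr
  have h2 : r⁻¹ * g * r ∈ S.T := by
    refine h1.mem_T ?_
    have h3 : g * S.E false y = S.E false y * g := conj_eq hfix
    calc r⁻¹ * g * r * S.t = r⁻¹ * (g * (r * S.t * r⁻¹)) * r := by group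
      _ = r⁻¹ * (r * S.t * r⁻¹ * g) * r := by rw [hrt, h3]
      _ = S.t * (r⁻¹ * g * r) := by group
  have h4 := hr _ h2
  rwa [show r * (r⁻¹ * g * r) * r⁻¹ = g by group] at h4

theorem T_app_low {i j : Bool} {g : G} {L : Lin} (hg : g ∈ S.T) (h : S.Map i j g L)
    {k : ℕ} (hk : k < 8) : app L k = k := by
  refine S.E_inj j (app_lt h.1 k) (by omega) ?_
  rw [← h.conj (show k < 16 by omega), S.E_low i false hk, ← S.E_low_comm hk hg,
    mul_inv_cancel_right, S.E_low false j hk]

theorem NAct.app_ZL {g : G} (a : S.NAct g) {k : ℕ} (hk : k < 8) :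
    app (ZL (app (a.L false) 1) (app (a.L false) 4)) k = app (a.L false) k := by
  have h2 := a.fixz false
  rw [app_two] at h2
  simp only [ZL, app_one, app_four]
  have h8 : k.testBit 3 = false := Nat.testBit_lt_two_pow (by omega)
  simp [app, h8, h2]

/-- The map of the centre induced by the normaliser is good. -/
theorem NAct.goodZ (ho : S.HasO o) {g : G} (hg : S.NormT g) (a : S.NAct g) :
    GoodZ o (app (a.L false) 1) (app (a.L false) 4) := by
  have hm := a.map false
  have happ : ∀ k ∈ List.range 8,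
      app (ZL (app (a.L false) 1) (app (a.L false) 4)) k = app (a.L false) k :=
    fun k hk => a.app_ZL (List.mem_range.1 hk)
  have hfix : ∀ k, k < 8 → app (a.L false) k = k → g * S.E false k * g⁻¹ = S.E false k := by
    intro k hk he
    rw [hm.conj (by omega : k < 16), he, S.E_low _ false hk]
  refine ⟨?_, fun k hk => ?_, fun k hk => ?_, fun k hk => ?_, ?_⟩
  · rw [List.map_congr_left happ]
    refine List.Nodup.map_on (fun x hx y hy he => ?_) List.nodup_range
    exact hm.app_inj (by have := List.mem_range.1 hx; omega)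
      (by have := List.mem_range.1 hy; omega) he
  · rw [happ k hk]; exact (a.low false k (List.mem_range.1 hk)).1
  · have hk8 := List.mem_range.1 hk
    rw [happ k hk]
    have hl := (a.low false k hk8).1
    have := ho.map_pres hm (show k < 16 by omega)
    have e : ∀ (b : Bool) (l : ℕ), l < 8 → kK o b l = inO o l := fun b l hl => by
      rw [kK, show zrep b l = l from (by decide +kernel : ∀ b : Bool, ∀ l ∈ List.range 8,
        zrep b l = l) b l (List.mem_range.2 hl)]
    rwa [e _ _ hl, e _ _ hk8] at this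
  · have hk8 := List.mem_range.1 hk
    by_cases hh : inO o k = true ∧ app (ZL (app (a.L false) 1) (app (a.L false) 4)) k = k
    · right
      rw [happ k hk] at hh
      have hT := S.trivial_of_fix hg hk8 ((ho k hk8).2 hh.1) (hfix k hk8 hh.2)
      exact ⟨S.T_app_low hT hm (by norm_num), S.T_app_low hT hm (by norm_num)⟩
    · exact Or.inl hh
  · by_cases hh : app (ZL (app (a.L false) 1) (app (a.L false) 4)) (app (a.L false) 1) = 1
    · right
      have h1 := (a.low false 1 (by norm_num)).1
      have h4 := (a.low false 4 (by norm_num)).1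
      rw [a.app_ZL h1] at hh
      rw [a.app_ZL h4]
      have hstep : ∀ k, k < 8 → g * g * S.E false k * (g * g)⁻¹ =
          S.E false (app (a.L false) (app (a.L false) k)) := by
        intro k hk
        have l1 := (a.low false k hk).1
        rw [show g * g * S.E false k * (g * g)⁻¹ = g * (g * S.E false k * g⁻¹) * g⁻¹ by group,
          hm.conj (by omega : k < 16), S.E_low _ false l1, hm.conj (by omega),
          S.E_low _ false (a.low false _ l1).1]
      have hT := S.trivial_of_fix (hg.mul hg) (y := 1) (by norm_num)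
        (by rw [S.E_one]) (by rw [hstep 1 (by norm_num), hh])
      have := hstep 4 (by norm_num)
      rw [← S.E_low_comm (show 4 < 8 by norm_num) hT, mul_inv_cancel_right] at this
      exact (S.E_inj false (by norm_num)
        (by have := (a.low false _ h4).1; omega) this).symm
    · exact Or.inl hh

theorem HasO.validO (ho : S.HasO o) : ValidO o := by
  intro x hx
  by_cases h : inO o x = true
  · right
    have hx8 : x < 8 := by simp only [List.mem_cons, List.not_mem_nil, or_false] at hx; omega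
    obtain ⟨g, hg, hgt⟩ := S.mover hx8 ((ho x hx8).2 h)
    obtain ⟨a⟩ := S.nact hg
    have h1 : app (a.L false) 1 = x := by
      refine S.E_inj (Bool.xor a.swap false) (app_lt (a.map false).1 1) (by omega) ?_
      rw [← (a.map false).conj (show 1 < 16 by norm_num), S.E_one, hgt, S.E_low false _ hx8]
    refine ⟨app (a.L false) 4, List.mem_range.2 (a.low false 4 (by norm_num)).1, ?_⟩
    have := a.goodZ ho hg
    rwa [h1] at this
  · exact Or.inl h

/-- Two normaliser elements moving `t` to the same place differ by an element of `T`. -/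
theorem same_coset {g g' : G} (hg : S.NormT g) (hg' : S.NormT g')
    (h : g * S.t * g⁻¹ = g' * S.t * g'⁻¹) : g'⁻¹ * g ∈ S.T := by
  refine (hg'.inv.mul hg).mem_T ?_
  calc g'⁻¹ * g * S.t = g'⁻¹ * (g * S.t * g⁻¹) * g := by group
    _ = g'⁻¹ * (g' * S.t * g'⁻¹) * g := by rw [h]
    _ = S.t * (g'⁻¹ * g) := by group

end Setup

end Cfsg.Agent.InvSym
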