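import Mathlib

/-!
# Parity criteria for an involution to lie outside a subgroup of index two

An involution `t` acts on the cosets of a subgroup `D`; the number of cosets fixed, times `|D|`, is
`|t^G ∩ D| |C(t)|`. Comparing signs gives subgroups of index two.
-/

set_option autoImplicit false
set_option linter.style.haveILetI false
set_option linter.unusedSectionVars false

namespace Cfsg.Agent.InvSym

open Subgroup

variable {G : Type*} [Group G] [Finite G]

/-- A homomorphism to a commutative group that is nontrivial at an involution gives a subgroup of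
index two. -/
theorem index_two_of_hom {A : Type*} [CommGroup A] (φ : G →* A) (t : G) (ht : t * t = 1)
    (hφ : φ t ≠ 1) : ∃ H : Subgroup G, H.index = 2 := by
  classical
  have hfin : Finite φ.range := Finite.of_surjective φ.rangeRestrict φ.rangeRestrict_surjective
  set x : φ.range := φ.rangeRestrict t with hx
  have hx1 : x ≠ 1 := fun h => hφ (congrArg Subtype.val h)
  have hx2 : x * x = 1 := by rw [hx, ← map_mul, ht, map_one]
  set sq : φ.range →* φ.range := powMonoidHom 2 with hsq
  have hninj : ¬ Function.Injective sq := fun h =>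
    hx1 (h (show sq x = sq 1 by simp [hsq, powMonoidHom_apply, pow_two, hx2]))
  have hnsurj : sq.range ≠ ⊤ := fun h =>
    hninj (Finite.injective_iff_surjective.2 (MonoidHom.range_eq_top.1 h))
  set Q := φ.range ⧸ sq.range
  have hexp : ∀ q : Q, q ^ (2 ^ 1) = 1 := by
    intro q
    obtain ⟨y, rfl⟩ := QuotientGroup.mk_surjective q
    rw [← QuotientGroup.mk_pow, QuotientGroup.eq_one_iff]
    exact ⟨y, by simp [hsq, powMonoidHom_apply]⟩
  have hQ : IsPGroup 2 Q := fun q => ⟨1, hexp q⟩
  haveI : Fact (Nat.Prime 2) := ⟨Nat.prime_two⟩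
  obtain ⟨n, hn⟩ := IsPGroup.iff_card.1 hQ
  have hn0 : n ≠ 0 := by
    intro h
    rw [h, pow_zero] at hn
    exact hnsurj (Subgroup.index_eq_one.1 (by rw [Subgroup.index_eq_card]; exact hn))
  obtain ⟨M, hM⟩ := Sylow.exists_subgroup_card_pow_prime (G := Q) 2 (n := n - 1)
    (by rw [hn]; exact pow_dvd_pow 2 (Nat.sub_le _ _))
  have hMi : M.index = 2 := by
    have h := M.index_mul_card
    rw [hn, hM, show n = (n - 1) + 1 by omega, pow_succ, Nat.add_sub_cancel] at h
    exact Nat.eq_of_mul_eq_mul_right (pow_pos two_pos _) (h.trans (mul_comm _ _))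
  set π : G →* Q := (QuotientGroup.mk' sq.range).comp φ.rangeRestrict
  have hπ : Function.Surjective π :=
    (QuotientGroup.mk'_surjective _).comp φ.rangeRestrict_surjective
  exact ⟨M.comap π, by rw [Subgroup.index_comap_of_surjective _ hπ, hMi]⟩

/-- The number of cosets of `D` fixed by `t`. -/
noncomputable def fixCount (D : Subgroup G) (t : G) : ℕ :=
  Nat.card {q : G ⧸ D // t • q = q}

/-- The intersection of the class of `t` with a set. -/
noncomputable def classCount (S : Set G) (t : G) : ℕ :=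
  Nat.card {x : G // x ∈ S ∧ IsConj t x}

/-- Counting elements that conjugate `t` into a set. -/
theorem card_conj_into (S : Set G) (t : G) :
    Nat.card {g : G // g⁻¹ * t * g ∈ S} =
      classCount S t * Nat.card (Subgroup.centralizer ({t} : Set G)) := by
  classical
  set Sfib := fun g : {g : G // g⁻¹ * t * g ∈ S} =>
    (⟨g.1⁻¹ * t * g.1, g.2, isConj_iff.2 ⟨g.1⁻¹, by group⟩⟩ : {x : G // x ∈ S ∧ IsConj t x})
  have hch : ∀ x : {x : G // x ∈ S ∧ IsConj t x}, ∃ g : G, g⁻¹ * t * g = x.1 := by
    rintro ⟨x, -, hx⟩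
    obtain ⟨g, hg⟩ := isConj_iff.1 hx
    exact ⟨g⁻¹, by simpa using hg⟩
  choose r hr using hch
  let e : {g : G // g⁻¹ * t * g ∈ S} ≃
      {x : G // x ∈ S ∧ IsConj t x} × Subgroup.centralizer ({t} : Set G) :=
    { toFun := fun g => (Sfib g, ⟨g.1 * (r (Sfib g))⁻¹, by
        rw [Subgroup.mem_centralizer_singleton_iff]
        have h := hr (Sfib g)
        simp only [Sfib] at h
        calc g.1 * (r (Sfib g))⁻¹ * t
            = g.1 * ((r (Sfib g))⁻¹ * t * r (Sfib g)) * (r (Sfib g))⁻¹ := by group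
          _ = g.1 * (g.1⁻¹ * t * g.1) * (r (Sfib g))⁻¹ := by rw [h]
          _ = t * (g.1 * (r (Sfib g))⁻¹) := by group⟩)
      invFun := fun p => ⟨p.2.1 * r p.1, by
        have hc : p.2.1 * t = t * p.2.1 := Subgroup.mem_centralizer_singleton_iff.1 p.2.2
        have : (p.2.1 * r p.1)⁻¹ * t * (p.2.1 * r p.1) = p.1.1 := by
          calc (p.2.1 * r p.1)⁻¹ * t * (p.2.1 * r p.1)
              = (r p.1)⁻¹ * (p.2.1⁻¹ * (t * p.2.1)) * r p.1 := by group
            _ = (r p.1)⁻¹ * (p.2.1⁻¹ * (p.2.1 * t)) * r p.1 := by rw [hc]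
            _ = p.1.1 := by rw [inv_mul_cancel_left]; exact hr _
        rw [this]; exact p.1.2.1⟩
      left_inv := fun g => Subtype.ext (by simp)
      right_inv := fun p => by
        have hc : p.2.1 * t = t * p.2.1 := Subgroup.mem_centralizer_singleton_iff.1 p.2.2
        have h1 : (p.2.1 * r p.1)⁻¹ * t * (p.2.1 * r p.1) = p.1.1 := by
          calc (p.2.1 * r p.1)⁻¹ * t * (p.2.1 * r p.1)
              = (r p.1)⁻¹ * (p.2.1⁻¹ * (t * p.2.1)) * r p.1 := by group
            _ = (r p.1)⁻¹ * (p.2.1⁻¹ * (p.2.1 * t)) * r p.1 := by rw [hc]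
            _ = p.1.1 := by rw [inv_mul_cancel_left]; exact hr _
        have h2 : Sfib ⟨p.2.1 * r p.1, by rw [h1]; exact p.1.2.1⟩ = p.1 := Subtype.ext h1
        refine Prod.ext h2 (Subtype.ext ?_)
        simp only
        rw [h2, mul_inv_cancel_right] }
  rw [Nat.card_congr e, Nat.card_prod]
  rfl

theorem smul_mk_eq_iff (D : Subgroup G) (t g : G) :
    t • (g : G ⧸ D) = (g : G ⧸ D) ↔ g⁻¹ * t * g ∈ D := by
  rw [MulAction.Quotient.smul_coe, smul_eq_mul, eq_comm, QuotientGroup.eq, ← mul_assoc]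

/-- The fixed cosets. -/
theorem fixCount_mul (D : Subgroup G) (t : G) :
    fixCount D t * Nat.card D =
      classCount (D : Set G) t * Nat.card (Subgroup.centralizer ({t} : Set G)) := by
  rw [← card_conj_into]
  have h : {g : G // g⁻¹ * t * g ∈ (D : Set G)} ≃ D × {q : G ⧸ D | t • q = q} :=
    (Equiv.subtypeEquivRight fun g => (smul_mk_eq_iff D t g).symm).trans
      (QuotientGroup.preimageMkEquivSubgroupProdSet D {q : G ⧸ D | t • q = q})
  rw [Nat.card_congr h, Nat.card_prod, mul_comm]
  rfl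

/-- An involution whose number of moved cosets is `2` modulo `4` is outside a subgroup of index
two. -/
theorem index_two_of_moved (D : Subgroup G) (t : G) (ht : t * t = 1)
    (h : (Nat.card (G ⧸ D) - fixCount D t) % 4 = 2) : ∃ H : Subgroup G, H.index = 2 := by
  classical
  haveI := Fintype.ofFinite (G ⧸ D)
  set σ : Equiv.Perm (G ⧸ D) := MulAction.toPermHom G (G ⧸ D) t with hσ
  have hσ2 : σ ^ 2 = 1 := by rw [hσ, ← map_pow, pow_two, ht, map_one]
  have hfix : Fintype.card (Function.fixedPoints σ) = fixCount D t := by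
    rw [fixCount, ← Nat.card_eq_fintype_card]
    exact Nat.card_congr (Equiv.refl _)
  have hs : Equiv.Perm.sign σ = -1 := by
    rw [Equiv.Perm.sign_of_pow_two_eq_one hσ2, hfix, ← Nat.card_eq_fintype_card]
    exact Odd.neg_one_pow ⟨(Nat.card (G ⧸ D) - fixCount D t) / 4, by omega⟩
  refine index_two_of_hom (Equiv.Perm.sign.comp (MulAction.toPermHom G (G ⧸ D))) t ht ?_
  rw [MonoidHom.comp_apply, ← hσ, hs]
  decide

theorem fixCount_le (D : Subgroup G) (t : G) : fixCount D t ≤ Nat.card (G ⧸ D) :=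
  Nat.card_le_card_of_injective _ Subtype.val_injective

theorem moved_even (D : Subgroup G) (t : G) (ht : t * t = 1) :
    Even (Nat.card (G ⧸ D) - fixCount D t) := by
  classical
  haveI := Fintype.ofFinite (G ⧸ D)
  set σ : Equiv.Perm (G ⧸ D) := MulAction.toPermHom G (G ⧸ D) t with hσ
  have hσ2 : σ ^ 2 = 1 := by rw [hσ, ← map_pow, pow_two, ht, map_one]
  haveI : Fact (Nat.Prime 2) := ⟨Nat.prime_two⟩
  have hc := Equiv.Perm.cycleType_of_pow_prime_eq_one (p := 2) hσ2
  have hfix : Fintype.card (Function.fixedPoints σ) = fixCount D t := by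
    rw [fixCount, ← Nat.card_eq_fintype_card]
    exact Nat.card_congr (Equiv.refl _)
  have h1 := Equiv.Perm.card_fixedPoints σ
  rw [hfix, ← Nat.card_eq_fintype_card, hc, Multiset.sum_replicate, smul_eq_mul] at h1
  have h2 := Equiv.Perm.sum_cycleType_le σ
  rw [hc, Multiset.sum_replicate, smul_eq_mul, ← Nat.card_eq_fintype_card] at h2
  exact ⟨σ.cycleType.card, by omega⟩

/-- Two subgroups of the same order whose numbers of fixed cosets differ by `2` modulo `4`. -/
theorem index_two_of_pair (D D' : Subgroup G) (t : G) (ht : t * t = 1)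
    (hcard : Nat.card D = Nat.card D')
    (h : ((fixCount D t : ℤ) - fixCount D' t) % 4 = 2) : ∃ H : Subgroup G, H.index = 2 := by
  have hq : Nat.card (G ⧸ D) = Nat.card (G ⧸ D') := by
    have h1 := Subgroup.card_eq_card_quotient_mul_card_subgroup D
    have h2 := Subgroup.card_eq_card_quotient_mul_card_subgroup D'
    rw [← hcard] at h2
    exact Nat.eq_of_mul_eq_mul_right (Nat.card_pos (α := D)) (h1.symm.trans h2)
  obtain ⟨r, hr⟩ := moved_even D t ht
  obtain ⟨r', hr'⟩ := moved_even D' t ht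
  have := fixCount_le D t
  have := fixCount_le D' t
  by_cases h2 : (Nat.card (G ⧸ D) - fixCount D t) % 4 = 2
  · exact index_two_of_moved D t ht h2
  · exact index_two_of_moved D' t ht (by omega)

/-- The form in which the pair criterion is applied. -/
theorem index_two_of_class_counts (D D' : Subgroup G) (t : G) (ht : t * t = 1) (a m : ℕ)
    (hm : Odd m) (ha : 4 ≤ a)
    (hC : Nat.card (Subgroup.centralizer ({t} : Set G)) = 32 * m)
    (hD : Nat.card D = 2 ^ a) (hD' : Nat.card D' = 2 ^ a)
    (h : ((classCount (D : Set G) t : ℤ) - classCount (D' : Set G) t) % 2 ^ (a - 3) =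
      2 ^ (a - 4)) : ∃ H : Subgroup G, H.index = 2 := by
  refine index_two_of_pair D D' t ht (hD.trans hD'.symm) ?_
  have h1 := fixCount_mul D t
  have h2 := fixCount_mul D' t
  rw [hD, hC] at h1
  rw [hD', hC] at h2
  obtain ⟨b, rfl⟩ : ∃ b, a = b + 4 := ⟨a - 4, by omega⟩
  rw [show b + 4 - 3 = b + 1 by omega, show b + 4 - 4 = b by omega] at h
  obtain ⟨k, rfl⟩ := hm
  obtain ⟨q, hq⟩ : ∃ q : ℤ, (classCount (D : Set G) t : ℤ) - classCount (D' : Set G) t =
      2 ^ (b + 1) * q + 2 ^ b :=
    ⟨((classCount (D : Set G) t : ℤ) - classCount (D' : Set G) t) / 2 ^ (b + 1),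
      by rw [← h, Int.mul_ediv_add_emod]⟩
  have e1 : (fixCount D t : ℤ) * 2 ^ (b + 4) = classCount (D : Set G) t * (32 * (2 * k + 1)) := by
    exact_mod_cast h1
  have e2 : (fixCount D' t : ℤ) * 2 ^ (b + 4) =
      classCount (D' : Set G) t * (32 * (2 * k + 1)) := by
    exact_mod_cast h2
  have key : (fixCount D t : ℤ) - fixCount D' t = 4 * (q * (2 * k + 1) + k) + 2 := by
    apply mul_right_cancel₀ (b := (2 : ℤ) ^ (b + 4)) (by positivity)
    linear_combination e1 - e2 + (32 * (2 * (k : ℤ) + 1)) * hq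
  omega

end Cfsg.Agent.InvSym
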