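import Cfsg.Agent.Lib.InvSym.QuadFacts

/-!
# Four conjugates of the involution in the centre
-/

set_option autoImplicit false
set_option linter.style.haveILetI false
set_option linter.unusedSectionVars false

namespace Cfsg.Agent.InvSym

variable {G : Type*} [Group G] [Finite G]

namespace Setup

variable {S : Setup G}

theorem gm_tau_tau : gm tauL tauL = idL := by decide

theorem normT_of_central {i : Bool} {g : G} {q : Lin} (h : S.Map i i g q) (hq : Central q) :
    S.NormT g := by
  intro x hx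
  obtain ⟨q', hq', hqq⟩ := h.inv
  have hqq' : gm q q' = idL := by
    have h1 := h.comp hq'
    rw [mul_inv_cancel] at h1
    exact h1.unique (Map.one i)
  rcases S.T_map i hx with h1 | h1
  · refine S.mem_T_of_map ((h.comp h1).comp hq') (Or.inl ?_)
    rw [gm_idL, hqq']
  · refine S.mem_T_of_map ((h.comp h1).comp hq') (Or.inr ?_)
    rw [show gm q tauL = gm tauL q from hq, gm_assoc, hqq', gm_idL]

/-- No element maps `E i` both to `E false` and to `E true`. -/
theorem target_unique {i : Bool} {g : G} {L M : Lin} (h0 : S.Map i false g L)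
    (h1 : S.Map i true g M) : False := by
  have key : ∀ k, k < 16 → app L k < 8 := by
    intro k hk
    refine el_ne _ (bits_cases (app_lt h0.1 k)) _ (bits_cases (app_lt h1.1 k)) ?_
    have he : S.E false (app L k) = S.E true (app M k) := by rw [← h0.conj hk, ← h1.conj hk]
    have := congrArg S.f he
    rwa [S.f_E _ (app_lt h0.1 k), S.f_E _ (app_lt h1.1 k)] at this
  have hinj : Function.Injective (fun k : Fin 16 => (⟨app L k, key k k.2⟩ : Fin 8)) :=
    fun a b hab => Fin.ext (h0.app_inj a.2 b.2 (congrArg Fin.val hab))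
  simpa using Fintype.card_le_of_injective _ hinj

/-- Normaliser elements in one coset of `T` induce the same map of the centre. -/
theorem zmap_coset {g g' : G} (hg : S.NormT g) (hg' : S.NormT g') (a : S.NAct g)
    (a' : S.NAct g') (h : g * S.t * g⁻¹ = g' * S.t * g'⁻¹) {k : ℕ} (hk : k < 8) :
    app (a.L false) k = app (a'.L false) k := by
  have hs := S.same_coset hg hg' h
  have h1 := (a.map false).conj (show k < 16 by omega)
  have h2 := (a'.map false).conj (show k < 16 by omega)
  have hc := S.E_low_comm hk hs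
  have h3 : g * S.E false k * g⁻¹ = g' * S.E false k * g'⁻¹ := by
    calc g * S.E false k * g⁻¹
        = g' * (g'⁻¹ * g * S.E false k * (g'⁻¹ * g)⁻¹) * g'⁻¹ := by group
      _ = g' * S.E false k * g'⁻¹ := by rw [← hc, mul_inv_cancel_right]
  have l1 := (a.low false k hk).1
  have l2 := (a'.low false k hk).1
  rw [h1, h2, S.E_low _ false l1, S.E_low _ false l2] at h3
  exact S.E_inj false (by omega) (by omega) h3

theorem low_eq {g : G} {i j : Bool} {L : Lin} (h : S.Map i j g L) (a : S.NAct g) {k : ℕ}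
    (hk : k < 8) : app L k = app (a.L false) k := by
  have l1 := (a.low false k hk).1
  refine S.E_inj j (app_lt h.1 k) (by omega) ?_
  rw [← h.conj (show k < 16 by omega), S.E_low i false hk,
    (a.map false).conj (show k < 16 by omega)]
  exact S.E_low _ j l1

/-- The involution centralising `t` and the central element `c` fixes the elementary
subgroups. -/
theorem c_fixes {g : G} (a : S.NAct g) (h7 : g * S.t * g⁻¹ = S.E false 7)
    (h4 : app (a.L false) 4 = 4) : a.swap = false := by
  by_contra hsw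
  rw [Bool.not_eq_false] at hsw
  have hm := a.map false
  rw [hsw] at hm
  simp only [Bool.xor_false] at hm
  set l := app (a.L false) 8 with hl
  have hl16 : l < 16 := app_lt hm.1 8
  have h1 : app (a.L false) 1 = 7 := center_image a (by norm_num) h7 false
  have h6 : app (a.L false) 6 = 6 := by
    have := app_xor (a.L false) 2 4
    rw [a.fixz, h4] at this
    exact this
  have hl8 : ¬ l < 8 := by
    intro h8
    obtain ⟨b, hb, hb'⟩ : ∃ b, b < 8 ∧ app (a.L false) b = l := by
      have hinj : Function.Injective (fun k : Fin 8 => (⟨app (a.L false) k, (a.low false k k.2).1⟩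
          : Fin 8)) := fun x y hxy => Fin.ext (hm.app_inj (by omega) (by omega)
            (congrArg Fin.val hxy))
      obtain ⟨b, hb⟩ := Finite.injective_iff_surjective.1 hinj ⟨l, h8⟩
      exact ⟨b, b.2, congrArg Fin.val hb⟩
    have := hm.app_inj (k := b) (l := 8) (by omega) (by norm_num) hb'
    omega
  rcases centC_witness l (bits_cases hl16) with h | ⟨p, hp, hpv, hpc, hyv, hy, hne⟩
  · exact hl8 h
  -- the witness
  set h := S.pre (false, p) with hh
  have hct : h * S.t = S.t * h := S.pre_comm hpv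
  have hfh : S.f h = (false, p) := S.f_pre hpv
  have hc6 : h * S.E false 6 = S.E false 6 * h := by
    refine S.inj _ _ (S.comm_mul hct (S.E_comm false (by norm_num)))
      (S.comm_mul (S.E_comm false (by norm_num)) hct) ?_
    rw [S.hom _ _ hct (S.E_comm false (by norm_num)), S.hom _ _ (S.E_comm false (by norm_num)) hct,
      hfh, S.f_E false (by norm_num)]
    exact hpc
  have hg6 : g * S.E false 6 = S.E false 6 * g := by
    have := hm.2 6 (by norm_num)
    rwa [h6, S.E_low true false (by norm_num)] at this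
  have hg1 : g * S.t = S.E false 7 * g := by rw [← h7]; group
  have h7c : h * S.E false 7 = S.E false 7 * h := by
    rw [show S.E false 7 = S.t * S.E false 6 by
      rw [← S.E_one false, S.E_mul false (by norm_num) (by norm_num)]; rfl,
      ← mul_assoc, hct, mul_assoc, hc6, mul_assoc]
  set k := g⁻¹ * h * g with hk
  have hkt : k * S.t = S.t * k := by
    calc g⁻¹ * h * g * S.t = g⁻¹ * (h * (g * S.t)) := by group
      _ = g⁻¹ * (h * S.E false 7 * g) := by rw [hg1, mul_assoc h]
      _ = g⁻¹ * (g * S.t * g⁻¹ * h * g) := by rw [h7c, h7]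
      _ = S.t * (g⁻¹ * h * g) := by group
  have hk6 : k * S.E false 6 = S.E false 6 * k := by
    calc g⁻¹ * h * g * S.E false 6 = g⁻¹ * (h * (g * S.E false 6)) := by group
      _ = g⁻¹ * (h * S.E false 6 * g) := by rw [hg6, mul_assoc h]
      _ = g⁻¹ * (S.E false 6 * g * (g⁻¹ * h * g)) := by rw [hc6]; group
      _ = g⁻¹ * (g * S.E false 6 * (g⁻¹ * h * g)) := by rw [hg6]
      _ = S.E false 6 * (g⁻¹ * h * g) := by group
  have hkp : (S.f k).2 ∈ centC := by
    refine mem_nL (S.range k hkt) (fun s hs => ?_) fun s hs => ?_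
    · rw [List.mem_singleton] at hs; subst hs; decide
    · rw [List.mem_singleton] at hs; subst hs
      refine ⟨el false 6, List.mem_singleton.2 rfl, ?_⟩
      have := congrArg S.f hk6
      rwa [S.hom _ _ hkt (S.E_comm false (by norm_num)),
        S.hom _ _ (S.E_comm false (by norm_num)) hkt, S.f_E false (by norm_num)] at this
  obtain ⟨r, hr, hr'⟩ := centC_normalises _ hkp (S.f k).1 8 (by decide)
  rw [Prod.mk.eta] at hr'
  have hr16 := List.mem_range.1 hr
  have hk8 : k * S.E false 8 = S.E false r * k := by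
    refine S.inj _ _ (S.comm_mul hkt (S.E_comm false (by norm_num)))
      (S.comm_mul (S.E_comm false hr16) hkt) ?_
    rw [S.hom _ _ hkt (S.E_comm false (by norm_num)), S.hom _ _ (S.E_comm false hr16) hkt,
      S.f_E false (by norm_num), S.f_E false hr16]
    exact hr'
  have hgy : g * S.E false 8 * g⁻¹ = S.E true l := hm.conj (by norm_num)
  have hy' : S.pre (conjEl (false, p) (el true l)) = h * S.E true l * h⁻¹ := by
    rw [eq_mul_inv_iff_mul_eq]
    refine S.inj _ _ (S.comm_mul (S.pre_comm hyv) hct) (S.comm_mul hct (S.E_comm true hl16)) ?_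
    rw [S.hom _ _ (S.pre_comm hyv) hct, S.hom _ _ hct (S.E_comm true hl16), S.f_pre hyv, hfh,
      S.f_E true hl16]
    exact hy.symm
  have hconj : h * S.E true l * h⁻¹ = g * S.E false r * g⁻¹ := by
    calc h * S.E true l * h⁻¹ = g * (k * S.E false 8 * k⁻¹) * g⁻¹ := by rw [← hgy, hk]; group
      _ = g * S.E false r * g⁻¹ := by rw [hk8, mul_inv_cancel_right]
  have hcomm : S.E true l * (h * S.E true l * h⁻¹) = h * S.E true l * h⁻¹ * S.E true l := by
    rw [hconj, ← hgy,
      show g * S.E false 8 * g⁻¹ * (g * S.E false r * g⁻¹) =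
        g * (S.E false 8 * S.E false r) * g⁻¹ by group,
      show g * S.E false r * g⁻¹ * (g * S.E false 8 * g⁻¹) =
        g * (S.E false r * S.E false 8) * g⁻¹ by group,
      S.E_mul false (by norm_num) hr16, S.E_mul false hr16 (by norm_num), Nat.xor_comm]
  rw [← hy'] at hcomm
  have := congrArg S.f hcomm
  rw [S.hom _ _ (S.E_comm true hl16) (S.pre_comm hyv),
    S.hom _ _ (S.pre_comm hyv) (S.E_comm true hl16), S.f_E true hl16, S.f_pre hyv] at this
  exact hne this

theorem kz (ho : S.HasO o4) {x : ℕ} (hx : x ∈ [3, 5, 7]) : IsConj S.t (S.E false x) := by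
  have h8 : x < 8 := by simp only [List.mem_cons, List.not_mem_nil, or_false] at hx; omega
  refine (ho x h8).2 ?_
  simp only [List.mem_cons, List.not_mem_nil, or_false] at hx
  rcases hx with rfl | rfl | rfl <;> rfl

theorem fourth (ho : S.HasO o4) {g : G} (hg : S.NormT g) (a : S.NAct g) {x : ℕ}
    (hx : x ∈ [3, 5, 7]) (hgt : g * S.t * g⁻¹ = S.E false x) :
    (x = 3 → app (a.L false) 4 = 4) ∧ (app (a.L false) 4 = 4 ∨ app (a.L false) 4 = 6) := by
  have h8 : x < 8 := by simp only [List.mem_cons, List.not_mem_nil, or_false] at hx; omega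
  have hgood := a.goodZ ho hg
  rw [center_image a h8 hgt false] at hgood
  obtain ⟨h1, h2⟩ := (o4_goodZ x hx _ (List.mem_range.2 (a.low false 4 (by norm_num)).1)).resolve_left
    (fun hn => hn hgood)
  exact ⟨fun e => h1.resolve_left (fun hn => hn e), h2⟩

/-- Normalised generator. -/
theorem normalised (ho : S.HasO o4) {g : G} {i : Bool} {x b : ℕ} (hx : x ∈ [3, 5])
    (hb : b < 16) (h : S.Map i i g (x, 2, 4, b)) :
    ∃ g' c, c ∈ [8, 12] ∧ S.Map i i g' (x, 2, 4, c) ∧ g⁻¹ * g' ∈ S.T := by
  rcases (norm_eight i x hx b (List.mem_range.2 hb)).resolve_left (fun hn => hn (h.pres ho))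
    with h8 | h8
  · exact ⟨g, b, h8, h, by simp⟩
  · obtain ⟨τ, hτ⟩ := S.slist_realised i (show tauL ∈ Slist i by cases i <;> decide)
    have hτT : τ ∈ S.T := S.mem_T_of_map hτ (Or.inr rfl)
    have hm := h.comp hτ
    simp only [List.mem_cons, List.not_mem_nil, or_false] at h8
    rcases h8 with e | e <;> rw [e] at hm
    · exact ⟨g * τ, 8, by simp, hm, by simpa using hτT⟩
    · exact ⟨g * τ, 12, by simp, hm, by simpa using hτT⟩

theorem mapped_coset {i : Bool} {g x : G} {L : Lin} (h : S.Map i i g L) :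
    g⁻¹ * x ∈ S.T ↔ S.Map i i x L ∨ S.Map i i x (gm L tauL) := by
  constructor
  · intro hx
    rcases S.T_map i hx with h1 | h1
    · left
      have := h.comp h1
      rwa [gm_idL, mul_inv_cancel_left] at this
    · right
      have := h.comp h1
      rwa [mul_inv_cancel_left] at this
  · obtain ⟨L', hL', hLL⟩ := h.inv
    rintro (hx | hx)
    · exact S.mem_T_of_map (hL'.comp hx) (Or.inl hLL)
    · refine S.mem_T_of_map (hL'.comp hx) (Or.inr ?_)
      rw [← gm_assoc, hLL, idL_gm (by decide)]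

theorem coset_count {i : Bool} {g : G} {L : Lin} (h : S.Map i i g L) :
    Nat.card {x : G // IsConj S.t x ∧ g⁻¹ * x ∈ S.T} = S.cnt i L + S.cnt i (gm L tauL) := by
  classical
  obtain ⟨L', hL', hLL⟩ := h.inv
  have hne : L ≠ gm L tauL := by
    intro e
    have e2 := congrArg (gm L') e
    rw [← gm_assoc, hLL, idL_gm (by decide)] at e2
    exact absurd e2 (by decide)
  rw [cnt, cnt, ← Nat.card_sum]
  refine Nat.card_congr ((Equiv.subtypeEquivRight fun x => ?_).trans (subtypeOrEquiv
    (fun x => IsConj S.t x ∧ S.Map i i x L) (fun x => IsConj S.t x ∧ S.Map i i x (gm L tauL))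
    ?_))
  · rw [mapped_coset h]; tauto
  · rw [Pi.disjoint_iff]
    intro x
    rw [disjoint_iff_inf_le]
    exact fun hxx => hne (hxx.1.2.unique hxx.2.2)

theorem cnt_tau (ho : S.HasO o4) (i : Bool) : S.cnt i tauL = fixFree o4 i tauL := by
  obtain ⟨x, hx, hI, hk⟩ := tau_member i
  have hv := Tl_facts.2.2.1 x hx
  refine cnt_rule ho o4_flip (by decide) (x := S.pre x) ?_ ?_
  · rw [kT_spec ho (S.pre_mem_T hx), S.f_pre hv]; exact hk
  · exact Map.of_intertwines (S.pre_comm hv) (by decide) (by rw [S.f_pre hv]; exact hI)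

theorem tyR_real {ty : ℕ} {g3 g5 : G}
    (h3 : S.Map (tyI ty) (tyI ty) g3 (tyR ty 1)) (h5 : S.Map (tyI ty) (tyI ty) g5 (tyR ty 2))
    {j : ℕ} (hj : j < 4) : S.Real (tyI ty) (tyR ty j) := by
  interval_cases j
  · exact ⟨1, Map.one _⟩
  · exact ⟨g3, h3⟩
  · exact ⟨g5, h5⟩
  · exact ⟨g3 * g5, h3.comp h5⟩

/-- The numbers attached to a type. -/
theorem type_bits (ho : S.HasO o4) {ty : ℕ} (hty : ty < 4) {g3 g5 : G}
    (h3 : S.Map (tyI ty) (tyI ty) g3 (tyR ty 1)) (h5 : S.Map (tyI ty) (tyI ty) g5 (tyR ty 2)) :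
    ∃ b : Bool × Bool × Bool × Bool, ∀ k, k < 48 →
      S.Real (tyI ty) (xk ty k) ∧ S.cnt (tyI ty) (xk ty k) = cntV ty b k := by
  obtain ⟨hc0, hc⟩ := crep_facts ty (List.mem_range.2 hty)
  obtain ⟨b1, e1⟩ := cnt_dichotomy (i := tyI ty) ho o4_flip (hc 1 (by decide))
  obtain ⟨b2, e2⟩ := cnt_dichotomy (i := tyI ty) ho o4_flip (hc 2 (by decide))
  obtain ⟨b3, e3⟩ := cnt_dichotomy (i := tyI ty) ho o4_flip (hc 3 (by decide))
  obtain ⟨b4, e4⟩ := cnt_dichotomy (i := tyI ty) ho o4_flip (hc 4 (by decide))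
  have hreal : ∀ k, k < 48 → S.Real (tyI ty) (xk ty k) := by
    intro k hk
    obtain ⟨hs, hj, hs', he⟩ := xtab_word ty (List.mem_range.2 hty) k (List.mem_range.2 hk)
    have hmem : ∀ n, n < 6 → (Slist (tyI ty)).getD n idL ∈ Slist (tyI ty) := fun n hn => by
      have hlen : (Slist (tyI ty)).length = 6 := by cases tyI ty <;> rfl
      rw [List.getD_eq_getElem?_getD, List.getElem?_eq_getElem (by omega), Option.getD_some]
      exact List.getElem_mem _
    rw [he]
    exact ((Real.of_slist (hmem _ hs)).mul (tyR_real h3 h5 hj)).mul (Real.of_slist (hmem _ hs'))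
  refine ⟨(b1, b2, b3, b4), fun k hk => ⟨hreal k hk, ?_⟩⟩
  obtain ⟨hr, hm, hcase⟩ := xtab_code ty (List.mem_range.2 hty) k (List.mem_range.2 hk)
  rcases hcase with ⟨c, e⟩ | ⟨c, e⟩ | ⟨c, e⟩
  · rw [cntV, c, e]; exact cnt_idL ho _
  · rw [cntV, c]; exact cnt_not_involution e
  · rw [cnt_conj (hreal _ hm) e hr]
    simp only [List.mem_cons, List.not_mem_nil, or_false] at c
    rcases c with c | c | c | c | c <;> rw [cntV, c]
    · rw [hc0]; exact cnt_tau ho _
    · exact e1
    · exact e2
    · exact e3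
    · exact e4

/-- The elementary subgroups are both fixed. -/
theorem index_two_fixed (ho : S.HasO o4) {g3 g5 : G} {L : Bool → Lin} {M : Bool → Lin}
    (h3 : ∀ i, S.Map i i g3 (L i)) (h5 : ∀ i, S.Map i i g5 (M i))
    (h31 : ∀ i, app (L i) 1 = 3 ∧ app (L i) 2 = 2 ∧ app (L i) 4 = 4)
    (h51 : ∀ i, app (M i) 1 = 5 ∧ app (M i) 2 = 2 ∧ app (M i) 4 = 4) :
    ∃ H : Subgroup G, H.index = 2 := by
  have n3 : ∀ i, ∃ g' c, c ∈ [8, 12] ∧ S.Map i i g' (3, 2, 4, c) ∧ g3⁻¹ * g' ∈ S.T := fun i => by
    obtain ⟨hb, he⟩ := (h3 i).eq_mk (h31 i).1 (h31 i).2.1 (h31 i).2.2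
    have := h3 i; rw [he] at this
    exact normalised ho (by simp) hb this
  have n5 : ∀ i, ∃ g' c, c ∈ [8, 12] ∧ S.Map i i g' (5, 2, 4, c) ∧ g5⁻¹ * g' ∈ S.T := fun i => by
    obtain ⟨hb, he⟩ := (h5 i).eq_mk (h51 i).1 (h51 i).2.1 (h51 i).2.2
    have := h5 i; rw [he] at this
    exact normalised ho (by simp) hb this
  obtain ⟨p0, a0, ha0, hp0, tp0⟩ := n3 false
  obtain ⟨p1, a1, ha1, hp1, tp1⟩ := n3 true
  obtain ⟨q0, b0, hb0, hq0, tq0⟩ := n5 false
  obtain ⟨q1, b1, hb1, hq1, tq1⟩ := n5 true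
  have e0 : a0 = b0 := (combos a0 ha0 b0 hb0).1.resolve_right
    (not_contra ⟨_, hp0.comp hq0⟩)
  have e1 : b1 = 8 := (combos a1 ha1 b1 hb1).2.resolve_right (not_contra ⟨_, hq1⟩)
  subst e0 e1
  -- the two types
  obtain ⟨A, hA, hA1, hA2⟩ : ∃ A ∈ [0, 1], ((3, 2, 4, a0) : Lin) = tyR A 1 ∧
      ((5, 2, 4, a0) : Lin) = tyR A 2 := by
    simp only [List.mem_cons, List.not_mem_nil, or_false] at ha0
    rcases ha0 with rfl | rfl
    · exact ⟨0, by simp, rfl, rfl⟩
    · exact ⟨1, by simp, rfl, rfl⟩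
  obtain ⟨B, hB, hB1, hB2⟩ : ∃ B ∈ [2, 3], ((3, 2, 4, a1) : Lin) = tyR B 1 ∧
      ((5, 2, 4, 8) : Lin) = tyR B 2 := by
    simp only [List.mem_cons, List.not_mem_nil, or_false] at ha1
    rcases ha1 with rfl | rfl
    · exact ⟨2, by simp, rfl, rfl⟩
    · exact ⟨3, by simp, rfl, rfl⟩
  rw [hA1] at hp0
  rw [hA2] at hq0
  rw [hB1] at hp1
  rw [hB2] at hq1
  have hAI : tyI A = false := by
    simp only [List.mem_cons, List.not_mem_nil, or_false] at hA
    rcases hA with rfl | rfl <;> rfl
  have hBI : tyI B = true := by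
    simp only [List.mem_cons, List.not_mem_nil, or_false] at hB
    rcases hB with rfl | rfl <;> rfl
  have hA4 : A < 4 := by simp only [List.mem_cons, List.not_mem_nil, or_false] at hA; omega
  have hB4 : B < 4 := by simp only [List.mem_cons, List.not_mem_nil, or_false] at hB; omega
  obtain ⟨bA, hbA⟩ := type_bits (S := S) ho hA4 (g3 := p0) (g5 := q0)
    (by rw [hAI]; exact hp0) (by rw [hAI]; exact hq0)
  obtain ⟨bB, hbB⟩ := type_bits (S := S) ho hB4 (g3 := p1) (g5 := q1)
    (by rw [hBI]; exact hp1) (by rw [hBI]; exact hq1)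
  have move : ∀ {g g' : G}, g⁻¹ * g' ∈ S.T →
      Nat.card {x : G // IsConj S.t x ∧ g'⁻¹ * x ∈ S.T} =
        Nat.card {x : G // IsConj S.t x ∧ g⁻¹ * x ∈ S.T} := by
    intro g g' hT
    refine Nat.card_congr (Equiv.subtypeEquivRight fun x => and_congr_right fun _ => ?_)
    constructor
    · intro hx
      have := S.T.mul_mem hT hx
      rwa [mul_assoc, mul_inv_cancel_left] at this
    · intro hx
      have := S.T.mul_mem (S.T.inv_mem hT) hx
      rwa [show (g⁻¹ * g')⁻¹ * (g⁻¹ * x) = g'⁻¹ * x by group] at this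
  -- the elements over the third point
  obtain ⟨τ0, hτ0⟩ := S.slist_realised false (show idL ∈ Slist false by decide)
  have hprod : (p0 * q0)⁻¹ * (p1 * q1) ∈ S.T := by
    have a3 := S.T.mul_mem (S.T.inv_mem tp0) tp1
    have a5 := S.T.mul_mem (S.T.inv_mem tq0) tq1
    have hn : S.NormT q0 := normT_of_central hq0 (by
      simp only [List.mem_cons, List.not_mem_nil, or_false] at hA
      rcases hA with rfl | rfl <;> decide)
    have := S.T.mul_mem (hn.conj_inv a3) a5
    rwa [show q0⁻¹ * ((g3⁻¹ * p0)⁻¹ * (g3⁻¹ * p1)) * q0 * ((g5⁻¹ * q0)⁻¹ * (g5⁻¹ * q1)) =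
      (p0 * q0)⁻¹ * (p1 * q1) by group] at this
  have key : ∀ (ty : ℕ) (b : Bool × Bool × Bool × Bool), ty < 4 →
      (∀ k, k < 48 → S.Real (tyI ty) (xk ty k) ∧ S.cnt (tyI ty) (xk ty k) = cntV ty b k) →
      ∀ j ∈ [1, 2, 3], ∀ g : G, S.Map (tyI ty) (tyI ty) g (tyR ty j) →
        Nat.card {x : G // IsConj S.t x ∧ g⁻¹ * x ∈ S.T} = cosetV ty b j := by
    intro ty b hty hb j hj g hg
    obtain ⟨x1, x2, x3, x4⟩ := xidx_facts ty (List.mem_range.2 hty) j hj
    rw [coset_count hg, cosetV, ← (hb _ x1).2, ← (hb _ x3).2, x2, x4]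
  have hcons : ∀ j ∈ [1, 2, 3], cosetV A bA j = cosetV B bB j := by
    intro j hj
    have r3 : S.Map false false (p0 * q0) (tyR A 3) := by
      have := hp0.comp hq0
      simpa [tyR] using this
    have r3' : S.Map true true (p1 * q1) (tyR B 3) := by
      have := hp1.comp hq1
      simpa [tyR] using this
    simp only [List.mem_cons, List.not_mem_nil, or_false] at hj
    rcases hj with rfl | rfl | rfl
    · rw [← key A bA hA4 hbA 1 (by simp) p0 (by rw [hAI]; exact hp0),
        ← key B bB hB4 hbB 1 (by simp) p1 (by rw [hBI]; exact hp1), move tp0, move tp1]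
    · rw [← key A bA hA4 hbA 2 (by simp) q0 (by rw [hAI]; exact hq0),
        ← key B bB hB4 hbB 2 (by simp) q1 (by rw [hBI]; exact hq1), move tq0, move tq1]
    · rw [← key A bA hA4 hbA 3 (by simp) _ (by rw [hAI]; exact r3),
        ← key B bB hB4 hbB 3 (by simp) _ (by rw [hBI]; exact r3'), move hprod]
  obtain ⟨p, hp, hp1', hp2', a, ha, hcard, hdiff⟩ := menu_covers A hA B hB bA bB hcons
  obtain ⟨_, _, g1, g2, hlen, -⟩ := menu_facts p hp
  have hAB : A ≠ B := fun e => by rw [e, hBI] at hAI; exact Bool.noConfusion hAI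
  have hbits : ∀ ty, (ty = A ∨ ty = B) → ∀ k, k < 48 →
      S.Real (tyI ty) (xk ty k) ∧ S.cnt (tyI ty) (xk ty k) = cntV ty (pick A bA bB ty) k := by
    rintro ty (rfl | rfl)
    · simpa [pick] using hbA
    · simpa [pick, Ne.symm hAB] using hbB
  have build : ∀ (ty : ℕ) (P : List ℕ), (ty = A ∨ ty = B) → GoodP ty P →
      ∃ D : Subgroup G, Nat.card D = 16 * P.length ∧
        classCount (D : Set G) S.t = sumV ty (pick A bA bB ty) P := by
    intro ty P hty hP
    obtain ⟨q1, q2, q3, q4⟩ := hP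
    have hcl : Closed (P.map (xk ty)) := ⟨q3, q4⟩
    have hre : ∀ L ∈ P.map (xk ty), S.Real (tyI ty) L := by
      intro L hL
      obtain ⟨k, hk, rfl⟩ := List.mem_map.1 hL
      exact (hbits ty hty k (q1 k hk)).1
    refine ⟨S.preim (tyI ty) (P.map (xk ty)) hcl, ?_, ?_⟩
    · exact (card_preim hcl q2 hre).trans (by rw [List.length_map])
    · refine (classCount_preim hcl q2).trans ?_
      rw [sumV, List.map_map]
      exact congrArg List.sum (List.map_congr_left fun k hk => (hbits ty hty k (q1 k hk)).2)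
  obtain ⟨D, hD, hDc⟩ := build _ _ hp1' g1
  obtain ⟨D', hD', hDc'⟩ := build _ _ hp2' g2
  refine index_two_of_class_counts D D' S.t S.sq a S.m S.odd ?_ S.card (hD.trans hcard) ?_ ?_
  · simp only [List.mem_cons, List.not_mem_nil, or_false] at ha; omega
  · rw [hD', ← hlen, hcard]
  · rw [hDc, hDc']; exact hdiff

/-- The normaliser acts as a four-group. -/
theorem index_two_klein (ho : S.HasO o4) {g3 g5 : G} (hg3 : S.NormT g3) (hg5 : S.NormT g5)
    (a3 : S.NAct g3) (a5 : S.NAct g5) (h3 : g3 * S.t * g3⁻¹ = S.E false 3)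
    (h5 : g5 * S.t * g5⁻¹ = S.E false 5) (hd5 : app (a5.L false) 4 = 4) :
    ∃ H : Subgroup G, H.index = 2 := by
  have hd3 : app (a3.L false) 4 = 4 := (fourth ho hg3 a3 (by simp) h3).1 rfl
  have h31 : ∀ i, app (a3.L i) 1 = 3 ∧ app (a3.L i) 2 = 2 ∧ app (a3.L i) 4 = 4 := fun i =>
    ⟨center_image a3 (by norm_num) h3 i, a3.fixz i, by rw [(a3.low i 4 (by norm_num)).2, hd3]⟩
  have h51 : ∀ i, app (a5.L i) 1 = 5 ∧ app (a5.L i) 2 = 2 ∧ app (a5.L i) 4 = 4 := fun i =>
    ⟨center_image a5 (by norm_num) h5 i, a5.fixz i, by rw [(a5.low i 4 (by norm_num)).2, hd5]⟩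
  set gc := g3 * g5 with hgc
  obtain ⟨ac⟩ := S.nact (hg3.mul hg5)
  have hc35 : ∀ k, k < 8 → app (ac.L false) k = app (a3.L false) (app (a5.L false) k) := by
    intro k hk
    rw [← low_eq ((a3.map (Bool.xor a5.swap false)).comp (a5.map false)) ac hk, app_gm,
      (a3.low (Bool.xor a5.swap false) _ (a5.low false k hk).1).2]
  have hc1 : app (ac.L false) 1 = 7 := by
    rw [hc35 1 (by norm_num), (h51 false).1, show (5 : ℕ) = 1 ^^^ 4 from rfl, app_xor,
      (h31 false).1, hd3]
    rfl
  have hc4 : app (ac.L false) 4 = 4 := by rw [hc35 4 (by norm_num), hd5, hd3]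
  have hc7 : gc * S.t * gc⁻¹ = S.E false 7 := by
    rw [← S.E_one false, (ac.map false).conj (by norm_num : 1 < 16), hc1]
    exact S.E_low _ false (by norm_num)
  have hcfix := c_fixes ac hc7 hc4
  have hswap : a3.swap = a5.swap := by
    have h := (a3.map (Bool.xor a5.swap false)).comp (a5.map false)
    have h' := ac.map false
    rw [hcfix] at h'
    cases hs3 : a3.swap <;> cases hs5 : a5.swap <;> rw [hs3, hs5] at h <;>
      first | rfl | exact (target_unique h' h).elim
  cases hs : a3.swap with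
  | false =>
    refine index_two_fixed ho (g3 := g3) (g5 := g5) (fun i => ?_) (fun i => ?_) h31 h51
    · simpa [hs] using a3.map i
    · simpa [← hswap, hs] using a5.map i
  | true =>
    exfalso
    have hm := a3.map false
    rw [hs] at hm
    obtain ⟨hM8, hM⟩ := hm.eq_mk (h31 false).1 (h31 false).2.1 (h31 false).2.2
    obtain ⟨M', hM', hMM⟩ := hm.inv
    have hinv : ∀ k, k < 8 → app (a3.L false) k < 8 →
        app M' (app (a3.L false) k) = k := fun k hk _ => by
      rw [← app_gm, hMM, app_idL (by omega)]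
    have m2 : app M' 2 = 2 := by
      have := hinv 2 (by norm_num) (a3.low false 2 (by norm_num)).1
      rwa [(h31 false).2.1] at this
    have m4 : app M' 4 = 4 := by
      have := hinv 4 (by norm_num) (a3.low false 4 (by norm_num)).1
      rwa [(h31 false).2.2] at this
    have m1 : app M' 1 = 3 := by
      have h' := hinv 1 (by norm_num) (a3.low false 1 (by norm_num)).1
      rw [(h31 false).1, show (3 : ℕ) = 1 ^^^ 2 from rfl, app_xor, m2] at h'
      have := congrArg (fun n => n ^^^ 2) h'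
      simpa using this
    obtain ⟨hM'8, hM'e⟩ := hM'.eq_mk m1 m2 m4
    have hc := ac.map true
    rw [hcfix] at hc
    obtain ⟨hc8, hce⟩ := hc.eq_mk (center_image ac (by norm_num) hc7 true) (ac.fixz true)
      (by rw [(ac.low true 4 (by norm_num)).2, hc4])
    have hMM' := hMM
    rw [hM, hM'e] at hMM'
    have hp1 := hc.pres ho
    rw [hce] at hp1
    have hp2 := hm.pres ho
    rw [hM] at hp2
    have hout := ((((swap_kill _ (List.mem_range.2 hc8)).resolve_left (fun hn => hn hp1))
      _ (List.mem_range.2 hM8)).resolve_left (fun hn => hn hp2))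
      _ (List.mem_range.2 hM'8)
    obtain ⟨p, hp, p', hp', s, hs1, s', hs2, hcase⟩ := hout.resolve_left (fun hn => hn hMM')
    obtain ⟨gp, hgp⟩ := S.slist_realised true hp
    obtain ⟨gp', hgp'⟩ := S.slist_realised true hp'
    obtain ⟨gs, hgs⟩ := S.slist_realised false hs1
    obtain ⟨gs', hgs'⟩ := S.slist_realised false hs2
    have hq := (hgs.comp (hM'.comp (((hgp.comp hc).comp hgp').comp hm))).comp hgs'
    rw [hM, hM'e, hce] at hq
    rcases hcase with ⟨e1, e2⟩ | ⟨e1, e2⟩
    · exact e2 (hq.stab e1).1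
    · set g' := gs * (g3⁻¹ * (gp * gc * gp' * g3)) * gs'
      have hn' : S.NormT g' := normT_of_central hq e1
      have himg : g' * S.t * g'⁻¹ = g3 * S.t * g3⁻¹ ∨ g' * S.t * g'⁻¹ = g5 * S.t * g5⁻¹ := by
        have h1 := hq.conj (show 1 < 16 by norm_num)
        rw [S.E_one] at h1
        simp only [List.mem_cons, List.not_mem_nil, or_false] at e2
        rcases e2 with e | e
        · left; rw [h1, h3]; exact congrArg _ e
        · right; rw [h1, h5]; exact congrArg _ e
      rcases himg with e | e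
      · rcases S.T_map false (S.same_coset hn' hg3 e) with h1 | h1 <;>
        · have h2 := hm.comp h1
          rw [mul_inv_cancel_left] at h2
          exact target_unique hq h2
      · rcases S.T_map false (S.same_coset hn' hg5 e) with h1 | h1 <;>
        · have hm5 := a5.map false
          rw [← hswap, hs] at hm5
          have h2 := hm5.comp h1
          rw [mul_inv_cancel_left] at h2
          exact target_unique hq h2

end Setup

end Cfsg.Agent.InvSym
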