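import Cfsg.Agent.Lib.InvSym.Small
import Cfsg.Agent.Lib.InvSym.Data

/-!
# Finite facts for four conjugates in the centre
-/

set_option autoImplicit false

namespace Cfsg.Agent.InvSym

theorem o4_flip : ∀ r ∈ List.range 8, inO o4 (1 ^^^ r) = !inO o4 r := by decide +kernel

theorem o4_count : (List.range 8).countP (inO o4) = 4 := by decide +kernel

theorem o4_goodZ : ∀ x ∈ [3, 5, 7], ∀ d ∈ List.range 8,
    ¬ GoodZ o4 x d ∨ ((¬ x = 3 ∨ d = 4) ∧ (d = 4 ∨ d = 6)) := by decide +kernel

theorem o4_members : ∀ x ∈ List.range 8, ¬ inO o4 x = true ∨ x ∈ [1, 3, 5, 7] := by decide +kernel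

theorem tau_member : ∀ i : Bool, ∃ x ∈ Tl, Intertwines i i x tauL ∧ kT o4 x = true := by
  decide +kernel

theorem el_ne : ∀ k ∈ List.range 16, ∀ l ∈ List.range 16, el false k = el true l → k < 8 := by
  decide +kernel

/-- Permutations centralising the central element `c`. -/
def centC : List (List ℕ) := nL [el false 6] [el false 6]

theorem centC_normalises : ∀ p ∈ centC, ∀ b : Bool, ∀ k ∈ List.range 16, ∃ l ∈ List.range 16,
    mul (b, p) (el false k) = mul (el false l) (b, p) := by decide +kernel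

/-- The conjugate of `y` by `h`. -/
def conjEl (h y : El) : El :=
  mul (mul h y) (h.1, (List.range 7).map fun i => h.2.idxOf i)

theorem centC_witness : ∀ l ∈ List.range 16, l < 8 ∨ ∃ p ∈ centC,
    Valid6 (false, p) ∧ mul (false, p) (el false 6) = mul (el false 6) (false, p) ∧
      Valid6 (conjEl (false, p) (el true l)) ∧
      mul (false, p) (el true l) = mul (conjEl (false, p) (el true l)) (false, p) ∧
      mul (el true l) (conjEl (false, p) (el true l)) ≠
        mul (conjEl (false, p) (el true l)) (el true l) := by decide +kernel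

/-- Commutes with `tauL`. -/
def Central (q : Lin) : Prop := gm q tauL = gm tauL q

instance (q : Lin) : Decidable (Central q) := by unfold Central; infer_instance

/-- The maps obtained from `L` on `E true` and carried to `E false`. -/
def carried (L M M' p p' : Lin) : Lin := gm M' (gm (gm (gm p L) p') M)

/-- The contradiction when `tz` moves the elementary subgroups. -/
def SwapOut (L M M' : Lin) : Prop :=
  ∃ p ∈ Slist true, ∃ p' ∈ Slist true, ∃ s ∈ Slist false, ∃ s' ∈ Slist false,
    (app (gm (gm s (carried L M M' p p')) s') 1 = 1 ∧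
        gm (gm s (carried L M M' p p')) s' ∉ Slist false) ∨
      (Central (gm (gm s (carried L M M' p p')) s') ∧
        app (gm (gm s (carried L M M' p p')) s') 1 ∈ [3, 5])

instance (L M M' : Lin) : Decidable (SwapOut L M M') := by unfold SwapOut; infer_instance

theorem swap_kill : ∀ a ∈ List.range 16, ¬ Pres o4 true true (7, 2, 4, a) ∨
    ∀ b ∈ List.range 16, ¬ Pres o4 false true (3, 2, 4, b) ∨
      ∀ b' ∈ List.range 16, gm (3, 2, 4, b') (3, 2, 4, b) ≠ idL ∨
        SwapOut (7, 2, 4, a) (3, 2, 4, b) (3, 2, 4, b') := by decide +kernel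

/-- Normalising the last image. -/
theorem norm_eight : ∀ i : Bool, ∀ x ∈ [3, 5], ∀ a ∈ List.range 16,
    ¬ Pres o4 i i (x, 2, 4, a) ∨ a ∈ [8, 12] ∨
      gm (x, 2, 4, a) tauL ∈ [((x, 2, 4, 8) : Lin), (x, 2, 4, 12)] := by decide +kernel

theorem combos : ∀ a ∈ [8, 12], ∀ b ∈ [8, 12],
    (a = b ∨ Contra false (gm (3, 2, 4, a) (5, 2, 4, b))) ∧
      (b = 8 ∨ Contra true (5, 2, 4, b)) := by decide +kernel

theorem cyclic_word : ∃ s ∈ Slist false, ∃ s' ∈ Slist false, ∃ p ∈ Slist false,
    Central (gm (gm (gm (gm s (3, 2, 4, 12)) s') (3, 2, 4, 12)) p) ∧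
      app (gm (gm (gm (gm s (3, 2, 4, 12)) s') (3, 2, 4, 12)) p) 1 = 5 ∧
      app (gm (gm (gm (gm s (3, 2, 4, 12)) s') (3, 2, 4, 12)) p) 4 = 4 := by decide +kernel

theorem cyclic_counts : (∃ M ∈ reach false (3, 2, 4, 8), gm M tauL = gm (3, 2, 4, 10) M) ∧
    fixFree o4 false tauL = 4 ∧ fixFree o4 false (3, 2, 4, 8) = 8 ∧
    gm (3, 2, 4, 8) tauL = (3, 2, 4, 10) ∧ ((3, 2, 4, 8) : Lin) ≠ idL := by decide +kernel

end Cfsg.Agent.InvSym
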