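import Cfsg.Agent.Lib.InvSym.Parity
import Cfsg.Agent.Lib.InvSym.Model

/-!
# An involution with centralizer `2 × S₆` or `2 × S₇`: maps of the two elementary subgroups
-/

set_option autoImplicit false
set_option linter.style.haveILetI false
set_option linter.unusedSectionVars false

namespace Cfsg.Agent.InvSym

/-! ### Linear maps on bits -/

theorem ite_xor (a b : Bool) (x : ℕ) :
    (if Bool.xor a b then x else 0) = (if a then x else 0) ^^^ (if b then x else 0) := by
  cases a <;> cases b <;> simp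

theorem app_xor (L : Lin) (k l : ℕ) : app L (k ^^^ l) = app L k ^^^ app L l := by
  simp only [app, Nat.testBit_xor, ite_xor]
  ac_rfl

theorem app_zero (L : Lin) : app L 0 = 0 := by simp [app]

theorem app_ite (L : Lin) (b : Bool) (x : ℕ) :
    app L (if b then x else 0) = if b then app L x else 0 := by
  cases b <;> simp [app_zero]

theorem app_gm (L M : Lin) (k : ℕ) : app (gm L M) k = app L (app M k) := by
  have h : app M k = (if k.testBit 0 then M.1 else 0) ^^^
      ((if k.testBit 1 then M.2.1 else 0) ^^^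
        ((if k.testBit 2 then M.2.2.1 else 0) ^^^ (if k.testBit 3 then M.2.2.2 else 0))) := rfl
  rw [h, app_xor, app_xor, app_xor, app_ite, app_ite, app_ite, app_ite]
  rfl

theorem app_lt {L : Lin} (h : InRange L) (k : ℕ) : app L k < 16 := by
  obtain ⟨h1, h2, h3, h4⟩ := h
  unfold app
  refine Nat.xor_lt_two_pow (n := 4) ?_ (Nat.xor_lt_two_pow ?_ (Nat.xor_lt_two_pow ?_ ?_)) <;>
    · split <;> omega

theorem inRange_gm {L : Lin} (h : InRange L) (M : Lin) : InRange (gm L M) :=
  ⟨app_lt h _, app_lt h _, app_lt h _, app_lt h _⟩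

theorem app_one (L : Lin) : app L 1 = L.1 := by simp [app, Nat.testBit]
theorem app_two (L : Lin) : app L 2 = L.2.1 := by simp [app, Nat.testBit]
theorem app_four (L : Lin) : app L 4 = L.2.2.1 := by simp [app, Nat.testBit]
theorem app_eight (L : Lin) : app L 8 = L.2.2.2 := by simp [app, Nat.testBit]

theorem app_idL_table : ∀ k ∈ List.range 16, app idL k = k := by decide +kernel

theorem app_idL {k : ℕ} (hk : k < 16) : app idL k = k := app_idL_table k (List.mem_range.2 hk)

theorem lin_ext {L M : Lin} (h : ∀ k, k < 16 → app L k = app M k) : L = M := by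
  have h1 := h 1 (by norm_num)
  have h2 := h 2 (by norm_num)
  have h3 := h 4 (by norm_num)
  have h4 := h 8 (by norm_num)
  simp only [app_one, app_two, app_four, app_eight] at h1 h2 h3 h4
  exact Prod.ext h1 (Prod.ext h2 (Prod.ext h3 h4))

theorem gm_assoc (L M N : Lin) : gm (gm L M) N = gm L (gm M N) :=
  lin_ext fun k _ => by simp [app_gm]

theorem gm_idL (L : Lin) : gm L idL = L :=
  lin_ext fun k hk => by rw [app_gm, app_idL hk]

theorem idL_gm {L : Lin} (h : InRange L) : gm idL L = L :=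
  lin_ext fun k _ => by rw [app_gm, app_idL (app_lt h k)]

/-! ### Generalities -/

variable {G : Type*} [Group G]

/-- A subgroup from a nonempty set closed under products in a finite group. -/
def subgroupOfClosed [Finite G] (S : Set G) (h1 : (1 : G) ∈ S)
    (hmul : ∀ x y, x ∈ S → y ∈ S → x * y ∈ S) : Subgroup G where
  carrier := S
  one_mem' := h1
  mul_mem' := fun hx hy => hmul _ _ hx hy
  inv_mem' := fun {x} hx => by
    have hpow : ∀ n : ℕ, x ^ n ∈ S := fun n => by
      induction n with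
      | zero => simpa using h1
      | succ n ih => rw [pow_succ]; exact hmul _ _ ih hx
    have : x⁻¹ = x ^ (orderOf x - 1) := by
      rw [eq_comm, eq_inv_iff_mul_eq_one, ← pow_succ,
        Nat.sub_add_cancel (orderOf_pos x), pow_orderOf_eq_one]
    rw [this]
    exact hpow _

/-- An involution together with an identification of its centralizer with a subgroup of the
model. -/
structure Setup (G : Type*) [Group G] [Finite G] where
  t : G
  f : G → El
  m : ℕ
  sq : t * t = 1
  ft : f t = t0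
  odd : Odd m
  card : Nat.card (Subgroup.centralizer ({t} : Set G)) = 32 * m
  inj : ∀ x y, x * t = t * x → y * t = t * y → f x = f y → x = y
  hom : ∀ x y, x * t = t * x → y * t = t * y → f (x * y) = mul (f x) (f y)
  range : ∀ x, x * t = t * x → Perm7 (f x).2
  surj : ∀ e, Valid6 e → ∃ x, x * t = t * x ∧ f x = e

variable [Finite G]

namespace Setup

variable (S : Setup G)

theorem comm_mul {x y : G} (hx : x * S.t = S.t * x) (hy : y * S.t = S.t * y) :
    x * y * S.t = S.t * (x * y) := by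
  rw [mul_assoc, hy, ← mul_assoc, hx, mul_assoc]

/-- Preimage of a model element. -/
noncomputable def pre (e : El) : G :=
  open Classical in if h : Valid6 e then (S.surj e h).choose else 1

theorem pre_comm {e : El} (h : Valid6 e) : S.pre e * S.t = S.t * S.pre e := by
  rw [pre, dif_pos h]; exact (S.surj e h).choose_spec.1

theorem f_pre {e : El} (h : Valid6 e) : S.f (S.pre e) = e := by
  rw [pre, dif_pos h]; exact (S.surj e h).choose_spec.2

theorem pre_f {x : G} (hx : x * S.t = S.t * x) (h : Valid6 (S.f x)) : S.pre (S.f x) = x :=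
  S.inj _ _ (S.pre_comm h) hx (S.f_pre h)

/-- The elements of the elementary subgroups. -/
noncomputable def E (i : Bool) (k : ℕ) : G := S.pre (el i k)

theorem E_comm (i : Bool) {k : ℕ} (hk : k < 16) : S.E i k * S.t = S.t * S.E i k :=
  S.pre_comm (el_valid i k (bits_cases hk)).1

theorem f_E (i : Bool) {k : ℕ} (hk : k < 16) : S.f (S.E i k) = el i k :=
  S.f_pre (el_valid i k (bits_cases hk)).1

theorem E_mul (i : Bool) {k l : ℕ} (hk : k < 16) (hl : l < 16) :
    S.E i k * S.E i l = S.E i (k ^^^ l) := by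
  have hkl : k ^^^ l < 16 := Nat.xor_lt_two_pow (n := 4) hk hl
  refine S.inj _ _ (S.comm_mul (S.E_comm i hk) (S.E_comm i hl)) (S.E_comm i hkl) ?_
  rw [S.hom _ _ (S.E_comm i hk) (S.E_comm i hl), S.f_E i hk, S.f_E i hl, S.f_E i hkl,
    el_mul_table i k (bits_cases hk) l (bits_cases hl)]

theorem E_zero (i : Bool) : S.E i 0 = 1 := by
  have h := S.E_mul i (k := 0) (l := 0) (by norm_num) (by norm_num)
  rw [Nat.xor_self] at h
  exact mul_eq_left.1 h

theorem E_one (i : Bool) : S.E i 1 = S.t :=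
  S.inj _ _ (S.E_comm i (by norm_num)) rfl
    (by rw [S.f_E i (by norm_num), (el_zero i).2, S.ft])

theorem E_sq (i : Bool) {k : ℕ} (hk : k < 16) : S.E i k * S.E i k = 1 := by
  rw [S.E_mul i hk hk, Nat.xor_self, S.E_zero]

theorem E_inj (i : Bool) {k l : ℕ} (hk : k < 16) (hl : l < 16) (h : S.E i k = S.E i l) :
    k = l := by
  have h' := congrArg S.f h
  rw [S.f_E i hk, S.f_E i hl] at h'
  exact List.inj_on_of_nodup_map (el_inj_table i) (bits_cases hk) (bits_cases hl) h'

theorem E_low (i j : Bool) {k : ℕ} (hk : k < 8) : S.E i k = S.E j k := by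
  have h : S.E false k = S.E true k := by rw [E, E, el_low k (List.mem_range.2 hk)]
  cases i <;> cases j <;> first | rfl | exact h | exact h.symm

theorem f_one : S.f 1 = one := by
  rw [← S.E_zero false, S.f_E false (by norm_num), (el_zero false).1]

/-- The Sylow subgroup. -/
noncomputable def T : Subgroup G :=
  subgroupOfClosed {x | x * S.t = S.t * x ∧ S.f x ∈ Tl}
    ⟨by simp, by
      rw [f_one, ← (el_zero false).1]
      exact (el_valid false 0 (bits_cases (by norm_num))).2⟩
    fun x y hx hy => ⟨S.comm_mul hx.1 hy.1, by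
      rw [S.hom _ _ hx.1 hy.1]; exact Tl_mul _ hx.2 _ hy.2⟩

theorem mem_T {x : G} : x ∈ S.T ↔ x * S.t = S.t * x ∧ S.f x ∈ Tl := Iff.rfl

theorem E_mem_T (i : Bool) {k : ℕ} (hk : k < 16) : S.E i k ∈ S.T :=
  ⟨S.E_comm i hk, by rw [S.f_E i hk]; exact (el_valid i k (bits_cases hk)).2⟩

theorem pre_mem_T {e : El} (he : e ∈ Tl) : S.pre e ∈ S.T :=
  ⟨S.pre_comm (Tl_facts.2.2.1 e he), by rw [S.f_pre (Tl_facts.2.2.1 e he)]; exact he⟩

theorem card_T : Nat.card S.T = 32 := by
  have e : S.T ≃ {x : El // x ∈ Tl} :=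
    { toFun := fun x => ⟨S.f x.1, x.2.2⟩
      invFun := fun e => ⟨S.pre e.1, S.pre_mem_T e.2⟩
      left_inv := fun x => Subtype.ext (S.pre_f x.2.1 (Tl_facts.2.2.1 _ x.2.2))
      right_inv := fun e => Subtype.ext (S.f_pre (Tl_facts.2.2.1 _ e.2)) }
  rw [Nat.card_congr e, Nat.card_congr
    (Tl_facts.1.getEquiv Tl).symm, Nat.card_fin, Tl_facts.2.1]

/-! ### Maps between the elementary subgroups -/

/-- Conjugation by `g` carries `E i` to `E j` by `L`. -/
def Map (i j : Bool) (g : G) (L : Lin) : Prop :=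
  InRange L ∧ ∀ k, k < 16 → g * S.E i k = S.E j (app L k) * g

variable {S}

theorem Map.of_basis {i j : Bool} {g : G} {L : Lin} (hL : InRange L)
    (h : ∀ k ∈ [1, 2, 4, 8], g * S.E i k = S.E j (app L k) * g) : S.Map i j g L := by
  have step : ∀ a b, a < 16 → b < 16 → g * S.E i a = S.E j (app L a) * g →
      g * S.E i b = S.E j (app L b) * g →
      g * S.E i (a ^^^ b) = S.E j (app L (a ^^^ b)) * g := by
    intro a b ha hb h1 h2
    rw [← S.E_mul i ha hb, ← mul_assoc, h1, mul_assoc, h2, ← mul_assoc,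
      S.E_mul j (app_lt hL a) (app_lt hL b), app_xor]
  have h0 : g * S.E i 0 = S.E j (app L 0) * g := by rw [app_zero, S.E_zero, S.E_zero]; simp
  refine ⟨hL, fun k hk => ?_⟩
  have key : ∀ b : Bool, ∀ n ∈ [1, 2, 4, 8],
      g * S.E i (if b then n else 0) = S.E j (app L (if b then n else 0)) * g := by
    intro b n hn
    cases b
    · exact h0
    · exact h n hn
  have hlt : ∀ b : Bool, ∀ n ∈ [1, 2, 4, 8], (if b then n else 0) < 16 := by decide
  have hk' : k = (if k.testBit 0 then 1 else 0) ^^^ ((if k.testBit 1 then 2 else 0) ^^^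
      ((if k.testBit 2 then 4 else 0) ^^^ (if k.testBit 3 then 8 else 0))) :=
    ((app_idL hk).symm.trans (by rfl))
  rw [hk']
  exact step _ _ (hlt _ _ (by simp))
    (Nat.xor_lt_two_pow (n := 4) (hlt _ _ (by simp))
      (Nat.xor_lt_two_pow (n := 4) (hlt _ _ (by simp)) (hlt _ _ (by simp))))
    (key _ _ (by simp))
    (step _ _ (hlt _ _ (by simp))
      (Nat.xor_lt_two_pow (n := 4) (hlt _ _ (by simp)) (hlt _ _ (by simp)))
      (key _ _ (by simp))
      (step _ _ (hlt _ _ (by simp)) (hlt _ _ (by simp)) (key _ _ (by simp)) (key _ _ (by simp))))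

theorem Map.comp {i j l : Bool} {g h : G} {L M : Lin} (hg : S.Map j l g L)
    (hh : S.Map i j h M) : S.Map i l (g * h) (gm L M) := by
  refine ⟨inRange_gm hg.1 M, fun k hk => ?_⟩
  rw [mul_assoc, hh.2 k hk, ← mul_assoc, hg.2 _ (app_lt hh.1 k), app_gm, mul_assoc]

theorem Map.unique {i j : Bool} {g : G} {L L' : Lin} (h : S.Map i j g L)
    (h' : S.Map i j g L') : L = L' :=
  lin_ext fun k hk => S.E_inj j (app_lt h.1 k) (app_lt h'.1 k)
    (mul_right_cancel ((h.2 k hk).symm.trans (h'.2 k hk)))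

theorem Map.app_inj {i j : Bool} {g : G} {L : Lin} (h : S.Map i j g L) {k l : ℕ} (hk : k < 16)
    (hl : l < 16) (he : app L k = app L l) : k = l :=
  S.E_inj i hk hl (mul_left_cancel (by rw [h.2 k hk, h.2 l hl, he]))

theorem inRange_idL : InRange idL := by decide

theorem Map.one (i : Bool) : S.Map i i (1 : G) idL :=
  ⟨inRange_idL, fun k hk => by rw [app_idL hk]; simp⟩

theorem Map.elem (i : Bool) {k : ℕ} (hk : k < 16) : S.Map i i (S.E i k) idL :=
  ⟨inRange_idL, fun l hl => by rw [app_idL hl, S.E_mul i hk hl, S.E_mul i hl hk, Nat.xor_comm]⟩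

theorem Map.inv {i j : Bool} {g : G} {L : Lin} (h : S.Map i j g L) :
    ∃ L' : Lin, S.Map j i g⁻¹ L' ∧ gm L' L = idL := by
  have hb : Function.Bijective (fun k : Fin 16 => (⟨app L k, app_lt h.1 k⟩ : Fin 16)) :=
    (Finite.injective_iff_bijective).1 fun a b hab =>
      Fin.ext (h.app_inj a.2 b.2 (congrArg Fin.val hab))
  choose r hr using hb.2
  have hr' : ∀ k (hk : k < 16), app L (r ⟨k, hk⟩ : Fin 16) = k := fun k hk =>
    congrArg Fin.val (hr ⟨k, hk⟩)
  have key : ∀ k (hk : k < 16), g⁻¹ * S.E j k = S.E i (r ⟨k, hk⟩ : Fin 16) * g⁻¹ := by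
    intro k hk
    have h1 := h.2 _ (r ⟨k, hk⟩).2
    rw [hr' k hk] at h1
    calc g⁻¹ * S.E j k = g⁻¹ * (S.E j k * g) * g⁻¹ := by group
      _ = g⁻¹ * (g * S.E i (r ⟨k, hk⟩ : Fin 16)) * g⁻¹ := by rw [h1]
      _ = _ := by group
  refine ⟨((r ⟨1, by norm_num⟩ : Fin 16), (r ⟨2, by norm_num⟩ : Fin 16),
    (r ⟨4, by norm_num⟩ : Fin 16), (r ⟨8, by norm_num⟩ : Fin 16)), ?_⟩
  have hmap : S.Map j i g⁻¹ ((r ⟨1, by norm_num⟩ : Fin 16), (r ⟨2, by norm_num⟩ : Fin 16),
      (r ⟨4, by norm_num⟩ : Fin 16), (r ⟨8, by norm_num⟩ : Fin 16)) := by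
    refine Map.of_basis ⟨Fin.isLt _, Fin.isLt _, Fin.isLt _, Fin.isLt _⟩ fun k hk => ?_
    simp only [List.mem_cons, List.not_mem_nil, or_false] at hk
    rcases hk with rfl | rfl | rfl | rfl
    · rw [app_one]; exact key 1 (by norm_num)
    · rw [app_two]; exact key 2 (by norm_num)
    · rw [app_four]; exact key 4 (by norm_num)
    · rw [app_eight]; exact key 8 (by norm_num)
  refine ⟨hmap, ?_⟩
  have h1 := hmap.comp h
  rw [inv_mul_cancel] at h1
  exact h1.unique (Map.one i)

theorem Map.of_intertwines {i j : Bool} {x : G} {L : Lin} (hx : x * S.t = S.t * x)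
    (hL : InRange L) (h : Intertwines i j (S.f x) L) : S.Map i j x L := by
  refine Map.of_basis hL fun k hk => ?_
  have hk16 : k < 16 := by
    simp only [List.mem_cons, List.not_mem_nil, or_false] at hk; omega
  refine S.inj _ _ (S.comm_mul hx (S.E_comm i hk16)) (S.comm_mul (S.E_comm j (app_lt hL k)) hx) ?_
  rw [S.hom _ _ hx (S.E_comm i hk16), S.hom _ _ (S.E_comm j (app_lt hL k)) hx, S.f_E i hk16,
    S.f_E j (app_lt hL k)]
  exact h k hk

theorem Map.comm {i : Bool} {g : G} {L : Lin} (h : S.Map i i g L) (h1 : app L 1 = 1) :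
    g * S.t = S.t * g := by
  have := h.2 1 (by norm_num)
  rwa [h1, S.E_one] at this

/-- A map fixing `t` comes from the centralizer. -/
theorem Map.stab {i : Bool} {g : G} {L : Lin} (h : S.Map i i g L) (h1 : app L 1 = 1) :
    L ∈ Slist i ∧ (L = idL → ∃ k, k < 16 ∧ g = S.E i k) ∧ (L = tauL → g ∈ S.T) := by
  have hg := h.comm h1
  have hp : (S.f g).2 ∈ nL (bas i) (Els i) := by
    refine mem_nL (S.range g hg) (fun s hs => (Tgens_facts.2 i s hs).1) fun s hs => ?_
    obtain ⟨k, hk, rfl⟩ := List.mem_map.1 (Tgens_facts.2 i s hs).2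
    have hk16 := List.mem_range.1 hk
    refine ⟨el i (app L k), List.mem_map.2 ⟨_, List.mem_range.2 (app_lt h.1 k), rfl⟩, ?_⟩
    have he := congrArg S.f (h.2 k hk16)
    rwa [S.hom _ _ hg (S.E_comm i hk16), S.hom _ _ (S.E_comm i (app_lt h.1 k)) hg,
      S.f_E i hk16, S.f_E i (app_lt h.1 k)] at he
  obtain ⟨hv, L', hL', hI, hid, htau⟩ := norm_E i _ hp (S.f g).1
  rw [Prod.mk.eta] at hv hI hid htau
  have hLL : L' = L := (Map.of_intertwines hg (Slist_range i L' hL').1 hI).unique h
  subst hLL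
  refine ⟨hL', fun e => ?_, fun e => ⟨hg, htau.resolve_left (not_not.2 e)⟩⟩
  obtain ⟨k, hk, hk'⟩ := List.mem_map.1 (hid.resolve_left (not_not.2 e))
  refine ⟨k, List.mem_range.1 hk, S.inj _ _ hg (S.E_comm i (List.mem_range.1 hk)) ?_⟩
  rw [S.f_E i (List.mem_range.1 hk), hk']

/-- The maps in `Slist` are induced. -/
theorem slist_realised (i : Bool) {L : Lin} (hL : L ∈ Slist i) : ∃ g, S.Map i i g L := by
  obtain ⟨h, -, hv, hI⟩ := Slist_realised i L hL
  exact ⟨S.pre h, Map.of_intertwines (S.pre_comm hv) (Slist_range i L hL).1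
    (by rw [S.f_pre hv]; exact hI)⟩

theorem T_map (i : Bool) {g : G} (hg : g ∈ S.T) : S.Map i i g idL ∨ S.Map i i g tauL := by
  rcases Tl_acts i _ hg.2 with ⟨h, -⟩ | h
  · exact Or.inl (Map.of_intertwines hg.1 inRange_idL h)
  · exact Or.inr (Map.of_intertwines hg.1 (by decide) h)

theorem mem_T_of_map {i : Bool} {g : G} {L : Lin} (h : S.Map i i g L)
    (hL : L = idL ∨ L = tauL) : g ∈ S.T := by
  rcases hL with rfl | rfl
  · obtain ⟨k, hk, rfl⟩ := (h.stab (app_idL (by norm_num))).2.1 rfl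
    exact S.E_mem_T i hk
  · exact (h.stab (by decide)).2.2 rfl

end Setup

end Cfsg.Agent.InvSym
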