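import Cfsg.Agent.Lib.InvSym.Count

/-!
# At most three conjugates of the involution in the centre
-/

set_option autoImplicit false
set_option linter.style.haveILetI false
set_option linter.unusedSectionVars false

namespace Cfsg.Agent.InvSym

/-- A hyperplane of the Sylow subgroup. -/
def hyp (j : ℕ) : List El :=
  match j with
  | 0 => Els false
  | 1 => [one, t0, zE, mul t0 zE].flatMap fun x => [x, mul x aE, mul x vE, mul (mul x aE) vE]
  | _ => [one, dE, zE, mul dE zE].flatMap fun x => [x, mul x aE, mul x vE, mul (mul x aE) vE]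

theorem hyp_facts : ∀ j ∈ [0, 1, 2], one ∈ hyp j ∧ (∀ x ∈ hyp j, ∀ y ∈ hyp j, mul x y ∈ hyp j) ∧
    (hyp j).Nodup ∧ (hyp j).length = 16 ∧ ∀ x ∈ hyp j, x ∈ Tl := by decide +kernel

theorem hyp_parity : ∀ o ∈ [((false, false, false, false, false) : OB),
      (false, true, false, false, false), (false, false, true, false, false),
      (false, false, false, true, false), (false, false, false, false, true)],
    ∃ a ∈ [0, 1, 2], ∃ b ∈ [0, 1, 2],
      (((hyp a).countP (kT o) : ℤ) - (hyp b).countP (kT o)) % 2 = 1 := by decide +kernel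

/-- A map leads to a map fixing `t` that is not induced by the centralizer. -/
def Contra (i : Bool) (L : Lin) : Prop :=
  ∃ s ∈ Slist i, app (gm (gm L s) L) 1 = 1 ∧ gm (gm L s) L ∉ Slist i

instance (i : Bool) (L : Lin) : Decidable (Contra i L) := by unfold Contra; infer_instance

/-! ### The fusion pattern `{t, tz}` -/

def o2 : OB := (true, false, false, false, false)

/-- The first list of maps of order eight. -/
def P2a : List Lin :=
  [(1, 2, 4, 8), (1, 2, 4, 10), (3, 2, 4, 8), (3, 2, 4, 10), (13, 2, 4, 8), (13, 2, 4, 10),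
    (15, 2, 4, 8), (15, 2, 4, 10)]

/-- The second list of maps of order eight. -/
def P2b : List Lin :=
  [(1, 2, 4, 8), (1, 2, 4, 10), (3, 2, 6, 8), (3, 2, 6, 10), (13, 2, 8, 4), (13, 2, 8, 6),
    (15, 2, 10, 4), (15, 2, 10, 6)]

/-- Induced maps obtained from `L`. -/
def reach (i : Bool) (L : Lin) : List Lin :=
  Slist i ++ (Slist i).flatMap fun s => (Slist i).map fun s' => gm (gm s L) s'

/-- The conclusion drawn from a map moving `t`. -/
def Concl2 (L : Lin) : Prop :=
  Contra false L ∨ (∀ A ∈ P2a, A ∈ reach false L) ∨ ∀ A ∈ P2b, A ∈ reach false L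

instance (L : Lin) : Decidable (Concl2 L) := by unfold Concl2; infer_instance

/-- Preservation of fusion. -/
def Pres (o : OB) (i j : Bool) (L : Lin) : Prop :=
  ((List.range 16).map (app L)).Nodup ∧
    ∀ k ∈ List.range 16, kK o j (app L k) = kK o i k

instance (o : OB) (i j : Bool) (L : Lin) : Decidable (Pres o i j L) := by
  unfold Pres; infer_instance

theorem one_fix : ∀ d ∈ List.range 8, ∀ a ∈ List.range 16,
    ¬ Pres o2 false false (3, 2, d, a) ∨ Concl2 (3, 2, d, a) := by decide +kernel

theorem one_swap : ∀ d ∈ List.range 8, ∀ a ∈ List.range 16, ∀ b ∈ List.range 16,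
    ¬ Pres o2 false true (3, 2, d, a) ∨ ¬ Pres o2 true false (3, 2, d, b) ∨
      Concl2 (gm (3, 2, d, b) (gm (1, 8, 4, 2) (3, 2, d, a))) := by decide +kernel

set_option synthInstance.maxSize 4000 in
set_option synthInstance.maxHeartbeats 1000000 in
theorem P2_facts : (∀ A ∈ P2a, ∀ B ∈ P2a, gm A B ∈ P2a) ∧ (∀ A ∈ P2b, ∀ B ∈ P2b, gm A B ∈ P2b) ∧
    idL ∈ P2a ∧ idL ∈ P2b ∧ P2a.Nodup ∧ P2b.Nodup ∧ P2a.length = 8 ∧ P2b.length = 8 ∧
    Tl.countP (kT o2) = 6 := by decide +kernel

/-! ### Three conjugates -/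

/-- The list of triples, with the elementary subgroup used and one of the other two indices. -/
def triples : List (OB × Bool × ℕ) :=
  [((false, true, true, false, false), false, 4), ((false, true, false, false, true), false, 4),
    ((false, false, true, true, false), false, 5), ((false, false, false, true, true), true, 6)]

/-- The two words used for the triples. -/
def Contra3 (i : Bool) (L : Lin) : Prop :=
  ∃ s ∈ Slist i, app (gm (gm (gm L L) s) L) 1 = 1 ∧ gm (gm (gm L L) s) L ∉ Slist i

instance (i : Bool) (L : Lin) : Decidable (Contra3 i L) := by unfold Contra3; infer_instance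

theorem triples_contra : ∀ q ∈ triples, inO q.1 q.2.2 = true ∧ q.2.2 < 8 ∧
    ∀ d ∈ List.range 8, ∀ a ∈ List.range 16, ¬ GoodZ q.1 q.2.2 d ∨
      ¬ Pres q.1 q.2.1 q.2.1
          (app (ZL q.2.2 d) q.2.2, 2, app (ZL q.2.2 d) d, a) ∨
        Contra3 q.2.1 (app (ZL q.2.2 d) q.2.2, 2, app (ZL q.2.2 d) d, a) := by decide +kernel

theorem triples_cover : ∀ o ∈ [((false, true, true, false, false) : OB),
      (false, true, false, false, true), (false, false, true, true, false),
      (false, false, false, true, true)], ∃ q ∈ triples, q.1 = o := by decide +kernel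

variable {G : Type*} [Group G] [Finite G]

namespace Setup

variable {S : Setup G}

theorem Map.eq_mk {i j : Bool} {g : G} {L : Lin} (h : S.Map i j g L) {x d : ℕ}
    (h1 : app L 1 = x) (h2 : app L 2 = 2) (h4 : app L 4 = d) :
    app L 8 < 16 ∧ L = (x, 2, d, app L 8) :=
  ⟨app_lt h.1 8, by
    rw [app_one] at h1; rw [app_two] at h2; rw [app_four] at h4
    rw [app_eight]; subst h1 h4; rw [← h2]⟩

theorem Map.pres {o : OB} (ho : S.HasO o) {i j : Bool} {g : G} {L : Lin} (h : S.Map i j g L) :
    Pres o i j L :=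
  ⟨List.Nodup.map_on (fun _ hx _ hy he =>
      h.app_inj (List.mem_range.1 hx) (List.mem_range.1 hy) he) List.nodup_range,
    fun _ hk => ho.map_pres h (List.mem_range.1 hk)⟩

theorem not_contra {i : Bool} {L : Lin} (h : S.Real i L) : ¬ Contra i L := by
  rintro ⟨s, hs, h1, h2⟩
  obtain ⟨g, hg⟩ := (h.mul (Real.of_slist hs)).mul h
  exact h2 (hg.stab h1).1

theorem not_contra3 {i : Bool} {L : Lin} (h : S.Real i L) : ¬ Contra3 i L := by
  rintro ⟨s, hs, h1, h2⟩
  obtain ⟨g, hg⟩ := ((h.mul h).mul (Real.of_slist hs)).mul h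
  exact h2 (hg.stab h1).1

theorem Real.reach {i : Bool} {L : Lin} (h : S.Real i L) {A : Lin} (hA : A ∈ reach i L) :
    S.Real i A := by
  simp only [InvSym.reach, List.mem_append, List.mem_flatMap, List.mem_map] at hA
  rcases hA with hA | ⟨s, hs, s', hs', rfl⟩
  · exact Real.of_slist hA
  · exact ((Real.of_slist hs).mul h).mul (Real.of_slist hs')

theorem center_image {g : G} (a : S.NAct g) {x : ℕ} (hx : x < 8)
    (hgt : g * S.t * g⁻¹ = S.E false x) (i : Bool) : app (a.L i) 1 = x := by
  refine S.E_inj (Bool.xor a.swap i) (app_lt (a.map i).1 1) (by omega) ?_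
  rw [← (a.map i).conj (show 1 < 16 by norm_num), S.E_one, hgt, S.E_low false _ hx]

theorem NAct.eq_mk {g : G} (a : S.NAct g) {x : ℕ} (hx : x < 8)
    (hgt : g * S.t * g⁻¹ = S.E false x) (i : Bool) :
    app (a.L i) 8 < 16 ∧ app (a.L false) 4 < 8 ∧
      a.L i = (x, 2, app (a.L false) 4, app (a.L i) 8) := by
  obtain ⟨h1, h2⟩ := (a.map i).eq_mk (center_image a hx hgt i) (a.fixz i)
    (a.low i 4 (by norm_num)).2
  exact ⟨h1, (a.low false 4 (by norm_num)).1, h2⟩

/-- The square of a normaliser element fixes each elementary subgroup. -/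
theorem NAct.sq {g : G} (a : S.NAct g) (i : Bool) :
    S.Map i i (g * g) (gm (a.L (Bool.xor a.swap i)) (a.L i)) := by
  have h := (a.map (Bool.xor a.swap i)).comp (a.map i)
  rwa [show Bool.xor a.swap (Bool.xor a.swap i) = i by cases a.swap <;> cases i <;> rfl] at h

theorem sq_eq : S.t * S.t = 1 := S.sq

/-- The fusion patterns settled by hyperplanes of `T`. -/
theorem index_two_hyp {o : OB} (ho : S.HasO o)
    (h : o ∈ [((false, false, false, false, false) : OB), (false, true, false, false, false),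
      (false, false, true, false, false), (false, false, false, true, false),
      (false, false, false, false, true)]) : ∃ H : Subgroup G, H.index = 2 := by
  obtain ⟨a, ha, b, hb, hab⟩ := hyp_parity o h
  obtain ⟨a1, a2, a3, a4, a5⟩ := hyp_facts a ha
  obtain ⟨b1, b2, b3, b4, b5⟩ := hyp_facts b hb
  obtain ⟨ca, ka⟩ := sub_facts ho _ a1 a2 a3 a5
  obtain ⟨cb, kb⟩ := sub_facts ho _ b1 b2 b3 b5
  refine index_two_of_class_counts _ _ S.t S.sq 4 S.m S.odd le_rfl S.card
    (by rw [ca, a4]; norm_num) (by rw [cb, b4]; norm_num) ?_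
  rw [ka, kb]
  simpa using hab

/-- The fusion pattern `{t, tz}`. -/
theorem index_two_pair {o : OB} (ho : S.HasO o) (h : o = o2) :
    ∃ H : Subgroup G, H.index = 2 := by
  subst h
  obtain ⟨g, hg, hgt⟩ := S.mover (k := 3) (by norm_num) ((ho 3 (by norm_num)).2 rfl)
  obtain ⟨a⟩ := S.nact hg
  obtain ⟨h80, hd, e0⟩ := a.eq_mk (by norm_num : (3 : ℕ) < 8) hgt false
  obtain ⟨h81, -, e1⟩ := a.eq_mk (by norm_num : (3 : ℕ) < 8) hgt true
  have hm0 := a.map false
  have hm1 := a.map true
  obtain ⟨L, hL, hc⟩ : ∃ L, S.Real false L ∧ Concl2 L := by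
    cases hsw : a.swap with
    | false =>
      rw [hsw] at hm0
      have hp := hm0.pres ho
      rw [e0] at hp
      exact ⟨_, ⟨g, hm0⟩, e0 ▸ ((one_fix _ (List.mem_range.2 hd) _
        (List.mem_range.2 h80)).resolve_left (fun hn => hn hp))⟩
    | true =>
      rw [hsw] at hm0 hm1
      obtain ⟨s, hs⟩ := S.slist_realised true (show (1, 8, 4, 2) ∈ Slist true by decide)
      have hp0 := hm0.pres ho
      have hp1 := hm1.pres ho
      rw [e0] at hp0
      rw [e1] at hp1
      have hk := hm1.comp (hs.comp hm0)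
      rw [e0, e1] at hk
      exact ⟨_, ⟨_, hk⟩, ((one_swap _ (List.mem_range.2 hd) _ (List.mem_range.2 h80) _
        (List.mem_range.2 h81)).resolve_left (fun hn => hn hp0)).resolve_left
          (fun hn => hn hp1)⟩
  obtain ⟨ha, hb, hia, hib, nda, ndb, la, lb, hT⟩ := P2_facts
  obtain ⟨P, hP, hnd, hlen, hreal⟩ : ∃ P : List Lin, Closed P ∧ P.Nodup ∧ P.length = 8 ∧
      ∀ A ∈ P, S.Real false A := by
    rcases hc with hc | hc | hc
    · exact absurd hc (not_contra hL)
    · exact ⟨P2a, ⟨hia, ha⟩, nda, la, fun A hA => hL.reach (hc A hA)⟩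
    · exact ⟨P2b, ⟨hib, hb⟩, ndb, lb, fun A hA => hL.reach (hc A hA)⟩
  have h128 : 128 ∣ Nat.card G := by
    have := Subgroup.card_subgroup_dvd_card (S.preim false P hP)
    rwa [card_preim hP hnd hreal, hlen] at this
  obtain ⟨cT, kTl⟩ := sub_facts ho Tl (by
    rw [← (el_zero false).1]; exact (el_valid false 0 (bits_cases (by norm_num))).2) Tl_mul
    Tl_facts.1 (fun _ hx => hx)
  rw [Tl_facts.2.1] at cT
  rw [hT] at kTl
  set D := S.sub Tl _ Tl_mul
  refine index_two_of_moved D S.t S.sq ?_
  have h1 := fixCount_mul D S.t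
  rw [cT, kTl, S.card] at h1
  have h2 := Subgroup.card_eq_card_quotient_mul_card_subgroup D
  rw [cT] at h2
  have h3 := fixCount_le D S.t
  obtain ⟨q, hq⟩ := h128
  obtain ⟨r, hr⟩ := S.odd
  omega

/-- Three conjugates in the centre are impossible. -/
theorem no_triple {o : OB} (ho : S.HasO o)
    (h : o ∈ [((false, true, true, false, false) : OB), (false, true, false, false, true),
      (false, false, true, true, false), (false, false, false, true, true)]) : False := by
  obtain ⟨q, hq, rfl⟩ := triples_cover o h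
  obtain ⟨hin, hy, hall⟩ := triples_contra q hq
  obtain ⟨g, hg, hgt⟩ := S.mover hy ((ho _ hy).2 hin)
  obtain ⟨a⟩ := S.nact hg
  have hy1 := center_image a hy hgt false
  have hgood := a.goodZ ho hg
  rw [hy1] at hgood
  set d := app (a.L false) 4 with hd
  have hd8 : d < 8 := (a.low false 4 (by norm_num)).1
  have hsq := a.sq q.2.1
  have hval : ∀ k, k < 8 →
      app (gm (a.L (Bool.xor a.swap q.2.1)) (a.L q.2.1)) k = app (ZL q.2.2 d) (app (a.L false) k) := by
    intro k hk
    rw [app_gm, (a.low q.2.1 k hk).2, (a.low _ _ (a.low false k hk).1).2,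
      ← a.app_ZL (a.low false k hk).1, hy1]
  obtain ⟨hb, he⟩ := hsq.eq_mk (x := app (ZL q.2.2 d) q.2.2) (d := app (ZL q.2.2 d) d)
    (by rw [hval 1 (by norm_num), hy1]) (by
      rw [app_gm, a.fixz, a.fixz]) (by rw [hval 4 (by norm_num)])
  have hp := hsq.pres ho
  rw [he] at hp hsq
  exact ((hall d (List.mem_range.2 hd8) _ (List.mem_range.2 hb)).resolve_left
    (fun hn => hn hgood)).elim (fun hn => hn hp) (not_contra3 ⟨_, hsq⟩)

end Setup

end Cfsg.Agent.InvSym
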